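import Cfsg.Agent.Lib.Involutions.RankOne.Saturation.Setting
import Cfsg.Agent.Lib.ZStar.Consequences
import Cfsg.Prelude.Def_TwoFusion

/-!
# Counting good involutions against an involution fixing two points

For a good `z` with point `d` and an involution `x` not commuting with it and not good, the central
involution `w` of `⟨z, x⟩` has `w * x` good.  Counting gives `n = f(y) (1 + Σ (f(h y) - 1))`.
-/

set_option autoImplicit false
set_option linter.unusedSectionVars false
set_option linter.style.haveILetI false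

namespace Cfsg.Agent.Involutions.RankOne.Saturation

open MulAction Involutions.Basic

variable {G Ω : Type*} [Group G] [MulAction G Ω] [FaithfulSMul G Ω] [Finite G] [Finite Ω]
variable {a : Ω} {U : Subgroup G}

/-- An involution that is not good. -/
def NonGood (Ω : Type*) {G : Type*} [Group G] [MulAction G Ω] (y : G) : Prop :=
  orderOf y = 2 ∧ ∀ c : Ω, ¬ GoodAt y c

/-- The number of fixed points. -/
noncomputable def fixNum (Ω : Type*) {G : Type*} [Group G] [MulAction G Ω] (y : G) : ℕ :=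
  Nat.card {c : Ω // y • c = c}

variable (hS : Sat G a U)
include hS

/-- The middle element of `⟨z, x⟩` for good `z`, when `|z x|` is even. -/
theorem Sat.middle {z x : G} {d : Ω} (hz : GoodAt z d) (hx : orderOf x = 2)
    (hev : Even (orderOf (z * x))) :
    ∃ w : G, orderOf w = 2 ∧ Commute w z ∧ Commute w x ∧ w • d = d ∧
      ∃ c : Ω, GoodAt (w * x) c := by
  obtain ⟨hw2, hwz, hwx⟩ := middle_involution hz.order hx hev
  obtain ⟨n, hn⟩ := hev
  have hn2 : orderOf (z * x) / 2 = n := by omega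
  rw [hn2] at hw2 hwz hwx
  refine ⟨(z * x) ^ n, hw2, hwz, hwx, hS.good_fix_of_commute hz hwz, ?_⟩
  have hconj : ∀ k : ℕ, (z * x) ^ k * z * ((z * x) ^ k)⁻¹ = (z * x) ^ (2 * k) * z := by
    intro k
    have h := conj_zpow_left hz.order hx (k : ℤ)
    rw [zpow_neg, zpow_natCast, inv_eq hz.order] at h
    calc (z * x) ^ k * z * ((z * x) ^ k)⁻¹ = (z * x) ^ k * z * (z * (z * x) ^ k * z) := by rw [h]
      _ = (z * x) ^ k * (z * z) * (z * x) ^ k * z := by group
      _ = (z * x) ^ (2 * k) * z := by rw [inv_sq_one hz.order, mul_one, _root_.two_mul, pow_add]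
  rcases Nat.even_or_odd' n with ⟨k, hk | hk⟩
  · exfalso
    set r : G := (z * x) ^ k with hr
    have hgood : GoodAt (r * z * r⁻¹) (r • d) := hz.conj r
    have hcom : Commute z (r * z * r⁻¹) := by
      rw [hconj, ← hk]
      exact (hwz.symm.mul_right (Commute.refl z))
    have hrd : r • d = d := ((hS.good_commute_iff hz hgood).1 hcom).symm
    have hr2 : Two r := by
      refine Two.of_sq_two ?_
      rw [hr, ← pow_add, show k + k = n by omega]
      exact Two.of_order_two hw2
    have hc := (hz.commute hrd hr2).eq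
    have h1 : (z * x) ^ (2 * k) * z = z := by rw [← hconj, hc, mul_inv_cancel_right]
    rw [mul_eq_right, ← hk] at h1
    exact ne_one hw2 h1
  · refine ⟨(z * x) ^ k • d, ?_⟩
    have e : (z * x) ^ n * x = (z * x) ^ k * z * ((z * x) ^ k)⁻¹ := by
      rw [hconj, hk, pow_succ, mul_assoc, mul_assoc, inv_sq_one hx, mul_one]
    rw [e]
    exact hz.conj _

/-- Good involutions with different points have product of odd order. -/
theorem Sat.good_odd {z z' : G} {d d' : Ω} (hz : GoodAt z d) (hz' : GoodAt z' d') (hne : d ≠ d') :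
    Odd (orderOf (z * z')) := by
  by_contra hc
  obtain ⟨w, hw2, hwz, hwx, hwd, c, hg⟩ := hS.middle hz hz'.order (Nat.not_odd_iff_even.1 hc)
  have hcd : c = d' :=
    ((hS.good_commute_iff hz' hg).1 (hwx.symm.mul_right (Commute.refl z'))).symm
  subst hcd
  have hw : GoodAt w c := by
    refine ⟨?_, ne_one hw2⟩
    have h := (cenTwo G c).mul_mem hg.1 hz'.1
    rwa [mul_assoc, inv_sq_one hz'.order, mul_one] at h
  exact hne (hS.good_unique hw hwd)

/-- The centraliser of an involution is transitive on its fixed points. -/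
theorem Sat.exists_centralizing_move (heven : Even (Nat.card G)) {y : G} (hy : orderOf y = 2)
    {c c' : Ω} (hc : y • c = c) (hc' : y • c' = c') : ∃ d : G, Commute d y ∧ d • c = c' := by
  by_cases he : c = c'
  · exact ⟨1, Commute.one_left y, by rw [one_smul, he]⟩
  obtain ⟨z, hz⟩ := hS.exists_good heven c
  obtain ⟨z', hz'⟩ := hS.exists_good heven c'
  obtain ⟨d, hd, hdz⟩ := exists_conj_of_odd hz.order hz'.order (hS.good_odd hz hz' he)
  obtain ⟨k, rfl⟩ := Subgroup.mem_zpowers_iff.1 hd
  refine ⟨_, (((hz.commute hc (Two.of_order_two hy)).mul_right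
    (hz'.commute hc' (Two.of_order_two hy))).symm).zpow_left k, ?_⟩
  have h := hz.conj ((z * z') ^ k)
  rw [hdz] at h
  exact hS.good_same h hz'

/-- Multiplying a non-good involution by an element of `cenTwo` at a fixed point. -/
theorem Sat.nonGood_mul {y h : G} {c : Ω} (hy : NonGood Ω y) (hh : h ∈ cenTwo G c)
    (hc : y • c = c) : NonGood Ω (h * y) := by
  obtain ⟨hh2, hhc, hhx⟩ := mem_cenTwo.1 hh
  have hcom : Commute y h := hhx y hc (Two.of_order_two hy.1)
  have hy1 : h * y ≠ 1 := by
    intro e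
    have hyh : y = h := by
      rw [← inv_eq_of_mul_eq_one_left hh2]
      exact (inv_eq_of_mul_eq_one_right e).symm
    exact hy.2 c ⟨hyh ▸ hh, ne_one hy.1⟩
  refine ⟨orderOf_two_iff.2 ⟨?_, hy1⟩, fun e he => ?_⟩
  · rw [show h * y * (h * y) = h * (y * h) * y by group, hcom.eq,
      show h * (h * y) * y = h * h * (y * y) by group, hh2, inv_sq_one hy.1, one_mul]
  have hec : e = c := (hS.good_unique he (by rw [mul_smul, hc, hhc])).symm
  subst hec
  refine hy.2 e ⟨?_, ne_one hy.1⟩
  have h1 := (cenTwo G e).mul_mem hh he.1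
  rwa [← mul_assoc, hh2, one_mul] at h1

/-- The number of good involutions at a point does not depend on the point. -/
theorem Sat.card_good (c : Ω) :
    Nat.card {z : G // GoodAt z c} = Nat.card {z : G // GoodAt z a} := by
  obtain ⟨g, hg⟩ := hS.exists_to_a c
  refine Nat.card_eq_of_bijective (fun z => (⟨g * z.1 * g⁻¹, hg ▸ z.2.conj g⟩ : {z : G // GoodAt z a}))
    ⟨fun z z' e => Subtype.ext ?_, fun z => ⟨⟨g⁻¹ * z.1 * g, ?_⟩, Subtype.ext ?_⟩⟩
  · exact mul_left_cancel (mul_right_cancel (congrArg Subtype.val e))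
  · simpa [inv_smul_eq_iff.2 hg.symm] using z.2.conj g⁻¹
  · show g * (g⁻¹ * z.1 * g) * g⁻¹ = z.1
    group

/-- Good involutions with point in a given set. -/
theorem Sat.card_pairs (p : Ω → Prop) :
    Nat.card {x : G × Ω // GoodAt x.1 x.2 ∧ p x.2} =
      Nat.card {c : Ω // p c} * Nat.card {z : G // GoodAt z a} := by
  classical
  haveI := Fintype.ofFinite Ω
  have e : {x : G × Ω // GoodAt x.1 x.2 ∧ p x.2} ≃ Σ c : {c : Ω // p c}, {z : G // GoodAt z c.1} :=
    { toFun := fun x => ⟨⟨x.1.2, x.2.2⟩, ⟨x.1.1, x.2.1⟩⟩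
      invFun := fun x => ⟨(x.2.1, x.1.1), x.2.2, x.1.2⟩
      left_inv := fun x => rfl
      right_inv := fun x => rfl }
  rw [Nat.card_congr e, Nat.card_sigma, Finset.sum_congr rfl fun c _ => hS.card_good c.1,
    Finset.sum_const, Finset.card_univ, smul_eq_mul, Nat.card_eq_fintype_card (α := {c : Ω // p c})]

/-- The fundamental count. -/
theorem Sat.count (heven : Even (Nat.card G)) {y : G} (hy : NonGood Ω y) (hya : y • a = a)
    [Fintype {h : G // GoodAt h a}] :
    Nat.card Ω = fixNum Ω y + fixNum Ω y * ∑ h : {h : G // GoodAt h a}, (fixNum Ω (h.1 * y) - 1) := by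
  classical
  haveI := Fintype.ofFinite Ω
  haveI := Fintype.ofFinite G
  have hyT := Two.of_order_two hy.1
  let Y := Σ c : {c : Ω // y • c = c}, {g : G // GoodAt g c.1}
  let X := {x : G × Ω // GoodAt x.1 x.2 ∧ y • x.2 ≠ x.2}
  let P := fun g : Y => {x : G × Ω // GoodAt x.1 x.2 ∧ (x.2 ≠ g.1.1 ∧ (g.2.1 * y) • x.2 = x.2)}
  have hP : ∀ (g : Y) (x : P g), y • x.1.2 ≠ x.1.2 := by
    rintro ⟨⟨c, hc⟩, g, hg⟩ ⟨⟨z, d⟩, hz, hdc, hd⟩ h
    refine hdc (hS.good_unique hg ?_)
    simp only at hd h
    rwa [mul_smul, h] at hd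
  let F : (Σ g : Y, P g) → X := fun s => ⟨s.2.1, s.2.2.1, hP s.1 s.2⟩
  have hbij : Function.Bijective F := by
    constructor
    · rintro ⟨⟨⟨c, hc⟩, g, hg⟩, ⟨⟨z, d⟩, hz, hdc, hd⟩⟩
        ⟨⟨⟨c', hc'⟩, g', hg'⟩, ⟨⟨z', d'⟩, hz', hdc', hd'⟩⟩ e
      obtain ⟨rfl, rfl⟩ := Prod.ext_iff.1 (congrArg Subtype.val e)
      simp only at hd hd' hdc hdc' hg hg'
      have hgy : Commute y g := hg.commute hc hyT
      have hgy' : Commute y g' := hg'.commute hc' hyT
      have hprod : g * y * (g' * y) = g * g' := by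
        rw [show g * y * (g' * y) = g * (y * g') * y by group, hgy'.eq,
          show g * (g' * y) * y = g * g' * (y * y) by group, inv_sq_one hy.1, mul_one]
      have h2 : Two (g * g') := by
        rw [← hprod]
        exact hS.two_mul hd hd' (Two.of_order_two (hS.nonGood_mul hy hg.1 hc).1)
          (Two.of_order_two (hS.nonGood_mul hy hg'.1 hc').1)
      have hfix : (g * g') • d = d := by rw [← hprod, mul_smul, hd', hd]
      by_cases hcc : c = c'
      · subst hcc
        by_cases hgg : g = g'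
        · subst hgg
          rfl
        · exact absurd (hS.good_unique (z := g * g') ⟨(cenTwo G c).mul_mem hg.1 hg'.1,
            fun e => hgg (by rw [eq_inv_of_mul_eq_one_left e, inv_eq hg'.order])⟩ hfix) hdc
      · have h1 := h2.eq_one_of_odd (hS.good_odd hg hg' hcc)
        have hgg : g = g' := by rw [eq_inv_of_mul_eq_one_left h1, inv_eq hg'.order]
        exact absurd (hS.good_same hg (hgg ▸ hg')) hcc
    · rintro ⟨⟨z, d⟩, hz, hd⟩
      simp only at hz hd
      have hev : Even (orderOf (z * y)) := by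
        refine Nat.not_odd_iff_even.1 fun ho => ?_
        obtain ⟨e, -, he⟩ := exists_conj_of_odd hz.order hy.1 ho
        exact hy.2 _ (he ▸ hz.conj e)
      obtain ⟨w, hw2, hwz, hwy, hwd, c, hg⟩ := hS.middle hz hy.1 hev
      have hc : y • c = c := hS.good_fix_of_commute hg (hwy.symm.mul_right (Commute.refl y))
      have hgw : w * y * y = w := by rw [mul_assoc, inv_sq_one hy.1, mul_one]
      refine ⟨⟨⟨⟨c, hc⟩, w * y, hg⟩, ⟨(z, d), hz, fun e => ?_, by simp only; rw [hgw, hwd]⟩⟩, rfl⟩
      simp only at e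
      exact hd (by rw [e, hc])
  have hcard := Nat.card_eq_of_bijective F hbij
  rw [Nat.card_sigma] at hcard
  set m := Nat.card {z : G // GoodAt z a} with hm
  have hfib : ∀ g : Y, Nat.card (P g) = (fixNum Ω (g.2.1 * y) - 1) * m := by
    rintro ⟨⟨c, hc⟩, g, hg⟩
    simp only [P]
    rw [hS.card_pairs (fun d => d ≠ c ∧ (g * y) • d = d)]
    congr 1
    have hgc : (g * y) • c = c := by rw [mul_smul, hc, hg.fix]
    have e : {d : Ω // d ≠ c ∧ (g * y) • d = d} ≃
        {d : {d : Ω // (g * y) • d = d} // d ≠ ⟨c, hgc⟩} :=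
      { toFun := fun d => ⟨⟨d.1, d.2.2⟩, fun e => d.2.1 (congrArg Subtype.val e)⟩
        invFun := fun d => ⟨d.1.1, fun e => d.2 (Subtype.ext e), d.1.2⟩
        left_inv := fun _ => rfl
        right_inv := fun _ => rfl }
    rw [Nat.card_congr e, fixNum, Nat.card_eq_fintype_card, Nat.card_eq_fintype_card,
      Fintype.card_subtype_compl, Fintype.card_subtype_eq]
  rw [Finset.sum_congr rfl fun g _ => hfib g, ← Finset.sum_mul, Fintype.sum_sigma] at hcard
  have hconst : ∀ c : {c : Ω // y • c = c}, ∑ g : {g : G // GoodAt g c.1}, (fixNum Ω (g.1 * y) - 1) =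
      ∑ h : {h : G // GoodAt h a}, (fixNum Ω (h.1 * y) - 1) := by
    rintro ⟨c, hc⟩
    obtain ⟨d, hdy, hd⟩ := hS.exists_centralizing_move heven hy.1 hya hc
    have hd' : d⁻¹ • c = a := inv_smul_eq_iff.2 hd.symm
    refine (Fintype.sum_bijective (fun h : {h : G // GoodAt h a} =>
      (⟨d * h.1 * d⁻¹, hd ▸ h.2.conj d⟩ : {g : G // GoodAt g c})) ⟨fun h h' e => ?_, fun g => ?_⟩
      _ _ fun h => ?_).symm
    · exact Subtype.ext (mul_left_cancel (mul_right_cancel (congrArg Subtype.val e)))
    · exact ⟨⟨d⁻¹ * g.1 * d, by simpa [hd'] using g.2.conj d⁻¹⟩, Subtype.ext (by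
        show d * (d⁻¹ * g.1 * d) * d⁻¹ = g.1
        group)⟩
    · congr 1
      have e : d * h.1 * d⁻¹ * y = d * (h.1 * y) * d⁻¹ := by
        rw [mul_assoc (d * h.1), hdy.inv_left.eq]
        group
      simp only [e]
      refine Nat.card_congr
        { toFun := fun x => ⟨d • x.1, by rw [mul_smul, mul_smul, inv_smul_smul, x.2]⟩
          invFun := fun x => ⟨d⁻¹ • x.1, ?_⟩
          left_inv := fun x => Subtype.ext (inv_smul_smul d x.1)
          right_inv := fun x => Subtype.ext (smul_inv_smul d x.1) }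
      have h2 := x.2
      rw [mul_smul, mul_smul] at h2
      exact eq_inv_smul_iff.2 h2
  rw [Finset.sum_congr rfl fun c _ => hconst c, Finset.sum_const, Finset.card_univ, smul_eq_mul,
    hS.card_pairs (fun d => ¬ y • d = d), ← hm] at hcard
  have hm0 : 0 < m := by
    obtain ⟨z, hz⟩ := hS.exists_good heven a
    haveI : Nonempty {z : G // GoodAt z a} := ⟨⟨z, hz⟩⟩
    exact Nat.card_pos
  have h := Nat.eq_of_mul_eq_mul_right hm0 hcard
  have hn : Nat.card Ω = fixNum Ω y + Nat.card {c : Ω // ¬ y • c = c} := by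
    rw [fixNum, ← Nat.card_sum]
    exact Nat.card_congr (Equiv.sumCompl _).symm
  rw [hn, ← h, fixNum, Nat.card_eq_fintype_card]

end Cfsg.Agent.Involutions.RankOne.Saturation
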