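import Cfsg.Agent.Lib.Involutions.RankOne.Saturation.TwoLemma

/-!
# The Sylow 2-group at the point: the two-point part has order two

`C = A ⊔ R` with `A` central elementary abelian, each involution of `R` centralised only by elements
of `C`, automorphisms fixing `R` transitive on `A#`, and `|A|² |R| < |S|`.
-/

set_option autoImplicit false
set_option linter.style.haveILetI false

namespace Cfsg.Agent.Involutions.RankOne.Saturation

/-- The hypotheses on the 2-group. -/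
structure Core {S : Type*} [Group S] (A R : Subgroup S) : Prop where
  two : IsPGroup 2 S
  central : A ≤ Subgroup.center S
  elementary : ∀ x ∈ A, x * x = 1
  disjoint : ∀ x ∈ A, x ∈ R → x = 1
  nontrivial : ∃ r ∈ R, r ≠ 1
  cent : ∀ r ∈ R, r * r = 1 → r ≠ 1 → ∀ s, Commute s r → ∃ α ∈ A, α⁻¹ * s ∈ R
  three : ∃ x x' : S, x ∈ A ∧ x' ∈ A ∧ x ≠ 1 ∧ x' ≠ 1 ∧ x ≠ x'
  auts : ∀ x ∈ A, x ≠ 1 → ∀ x' ∈ A, x' ≠ 1 →
    ∃ e : S ≃* S, (∀ r ∈ R, e r = r) ∧ (∀ z, e z ∈ A ↔ z ∈ A) ∧ e x = x'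
  big : Nat.card A * Nat.card A * Nat.card R < Nat.card S

variable {S : Type*} [Group S] [Finite S] {A R : Subgroup S}

omit [Finite S] in
theorem Core.mem_sup (h : Core A R) {s : S} : s ∈ A ⊔ R ↔ ∃ α ∈ A, α⁻¹ * s ∈ R := by
  constructor
  · intro hs
    have hn : A.Normal := ⟨fun x hx g => by
      rwa [Subgroup.mem_center_iff.1 (h.central hx) g, mul_inv_cancel_right]⟩
    rw [← SetLike.mem_coe, Subgroup.normal_mul] at hs
    obtain ⟨α, hα, r, hr, rfl⟩ := hs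
    exact ⟨α, hα, by simpa using hr⟩
  · rintro ⟨α, hα, hr⟩
    rw [← mul_inv_cancel_left α s]
    exact Subgroup.mul_mem_sup hα hr

omit [Finite S] in
theorem Core.card_sup (h : Core A R) :
    Nat.card ↥(A ⊔ R) = Nat.card A * Nat.card R := by
  rw [← Nat.card_prod]
  refine (Nat.card_eq_of_bijective (fun p : A × R => (⟨p.1 * p.2, Subgroup.mul_mem_sup p.1.2 p.2.2⟩ :
    ↥(A ⊔ R))) ⟨fun p p' e => ?_, fun x => ?_⟩).symm
  · have e' : (p.1 : S) * p.2 = p'.1 * p'.2 := congrArg Subtype.val e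
    have h1 : ((p'.1 : S))⁻¹ * p.1 = p'.2 * (p.2 : S)⁻¹ := by
      rw [eq_mul_inv_iff_mul_eq, mul_assoc, e', inv_mul_cancel_left]
    have h2 := h.disjoint _ (mul_mem (inv_mem p'.1.2) p.1.2) (h1 ▸ mul_mem p'.2.2 (inv_mem p.2.2))
    have h3 : p.1 = p'.1 := Subtype.ext (inv_mul_eq_one.1 h2).symm
    rw [h3] at e'
    exact Prod.ext h3 (Subtype.ext (mul_left_cancel e'))
  · obtain ⟨α, hα, hr⟩ := h.mem_sup.1 x.2
    exact ⟨(⟨α, hα⟩, ⟨_, hr⟩), Subtype.ext (mul_inv_cancel_left α x.1)⟩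

/-- An involution of `R` commuting with `R`, modulo `A` fixed by the normaliser of `A ⊔ R`. -/
theorem Core.exists_y (h : Core A R) : ∃ y ∈ R, y * y = 1 ∧ y ≠ 1 ∧ (∀ r ∈ R, Commute r y) ∧
    ∀ s ∈ Subgroup.normalizer ((A ⊔ R : Subgroup S) : Set S), s * y * s⁻¹ * y⁻¹ ∈ A := by
  classical
  haveI : Fact (Nat.Prime 2) := ⟨Nat.prime_two⟩
  haveI := h.two.isNilpotent
  set C := A ⊔ R with hC
  let P : ℕ → Prop := fun i => ∃ x ∈ C, x * x = 1 ∧ (∀ c ∈ C, Commute c x) ∧ x ∉ A ∧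
    x ∈ Subgroup.upperCentralSeries S i
  obtain ⟨r₀, hr₀, hr₀c⟩ : ∃ r ∈ R, orderOf r = 2 ∧ ∀ u ∈ R, Commute u r := by
    obtain ⟨r, hr, hr1⟩ := h.nontrivial
    have hRp : IsPGroup 2 R := h.two.to_subgroup R
    haveI : Nontrivial R := ⟨⟨⟨r, hr⟩, 1, fun e => hr1 (congrArg Subtype.val e)⟩⟩
    haveI := hRp.center_nontrivial
    have hdvd : 2 ∣ Nat.card (Subgroup.center R) := by
      obtain ⟨k, hk⟩ := IsPGroup.iff_card.1 (hRp.to_subgroup (Subgroup.center R))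
      have h1 : 1 < Nat.card (Subgroup.center R) := Finite.one_lt_card
      rw [hk] at h1 ⊢
      exact dvd_pow_self 2 (by rintro rfl; simp at h1)
    obtain ⟨⟨⟨w, hw⟩, hwc⟩, hwo⟩ := exists_prime_orderOf_dvd_card' (G := Subgroup.center R) 2 hdvd
    refine ⟨w, hw, by simpa using hwo, fun u hu => ?_⟩
    exact congrArg Subtype.val (Subgroup.mem_center_iff.1 hwc ⟨u, hu⟩)
  have hex : ∃ i, P i := by
    refine ⟨Group.nilpotencyClass S, r₀, Subgroup.mem_sup_right hr₀, ?_, ?_, ?_, ?_⟩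
    · have := pow_orderOf_eq_one r₀
      rwa [hr₀c.1, pow_two] at this
    · intro c hc
      obtain ⟨α, hα, hu⟩ := h.mem_sup.1 hc
      rw [← mul_inv_cancel_left α c]
      exact Commute.mul_left (Subgroup.mem_center_iff.1 (h.central hα) r₀).symm (hr₀c.2 _ hu)
    · intro hA
      rw [h.disjoint _ hA hr₀, orderOf_one] at hr₀c
      omega
    · rw [Subgroup.upperCentralSeries_nilpotencyClass]
      trivial
  obtain ⟨x, hxC, hx2, hxc, hxA, hxi⟩ := Nat.find_spec hex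
  obtain ⟨i, hi⟩ : ∃ i, Nat.find hex = i + 1 := by
    refine Nat.exists_eq_succ_of_ne_zero fun h0 => ?_
    rw [h0, Subgroup.upperCentralSeries_zero, Subgroup.mem_bot] at hxi
    exact hxA (hxi ▸ A.one_mem)
  rw [hi] at hxi
  have hcomm : ∀ s ∈ Subgroup.normalizer (C : Set S), s * x * s⁻¹ * x⁻¹ ∈ A := by
    intro s hs
    by_contra hA
    refine Nat.find_min hex (show i < Nat.find hex by omega) ⟨s * x * s⁻¹ * x⁻¹, ?_, ?_, ?_, hA, ?_⟩
    · exact mul_mem ((Subgroup.mem_normalizer_iff.1 hs x).1 hxC) (inv_mem hxC)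
    · have h1 : Commute (s * x * s⁻¹) x := hxc _ ((Subgroup.mem_normalizer_iff.1 hs x).1 hxC)
      rw [show x⁻¹ = x from inv_eq_of_mul_eq_one_left hx2,
        show s * x * s⁻¹ * x * (s * x * s⁻¹ * x) = s * x * s⁻¹ * (x * (s * x * s⁻¹)) * x by group,
        ← h1.eq, show s * x * s⁻¹ * (s * x * s⁻¹ * x) * x = s * (x * x) * s⁻¹ * (x * x) by group,
        hx2, mul_one, mul_one, mul_inv_cancel]
    · intro c hc
      refine Commute.mul_right ?_ (hxc c hc).inv_right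
      have h1 := hxc (s⁻¹ * c * s) (by
        rw [Subgroup.mem_normalizer_iff.1 hs, show s * (s⁻¹ * c * s) * s⁻¹ = c by group]
        exact hc)
      have h2 : Commute (s * (s⁻¹ * c * s) * s⁻¹) (s * x * s⁻¹) := Commute.conj_iff s |>.2 h1
      rwa [show s * (s⁻¹ * c * s) * s⁻¹ = c by group] at h2
    · have h1 := inv_mem (Subgroup.mem_upperCentralSeries_succ_iff.1 hxi s)
      rwa [commutatorElement_def,
        show (x * s * x⁻¹ * s⁻¹)⁻¹ = s * x * s⁻¹ * x⁻¹ by group] at h1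
  obtain ⟨α, hα, hr⟩ := h.mem_sup.1 hxC
  have hαc : ∀ z, Commute z α := fun z => Subgroup.mem_center_iff.1 (h.central hα) z
  refine ⟨α⁻¹ * x, hr, ?_, fun e => hxA ?_, fun r hr' => ?_, fun s hs => ?_⟩
  · rw [show α⁻¹ * x * (α⁻¹ * x) = α⁻¹ * (x * α⁻¹) * x by group, (hαc x).inv_right.eq,
      show α⁻¹ * (α⁻¹ * x) * x = α⁻¹ * α⁻¹ * (x * x) by group, hx2, mul_one,
      h.elementary _ (inv_mem hα)]
  · rw [show x = α by rw [inv_mul_eq_one] at e; exact e.symm]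
    exact hα
  · exact (hαc r).inv_right.mul_right (hxc r (Subgroup.mem_sup_right hr'))
  · have e : s * (α⁻¹ * x) * s⁻¹ * (α⁻¹ * x)⁻¹ = s * x * s⁻¹ * x⁻¹ := by
      rw [show s * (α⁻¹ * x) = s * α⁻¹ * x by group, (hαc s).inv_right.eq,
        show α⁻¹ * s * x * s⁻¹ * (α⁻¹ * x)⁻¹ = α⁻¹ * (s * x * s⁻¹ * x⁻¹) * α by group,
        mul_assoc, (hαc _).eq, inv_mul_cancel_left]
    rw [e]
    exact hcomm s hs

/-- The elements fixed by all the automorphisms are only `A`-trivial: the main structural result. -/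
theorem Core.result (h : Core A R) :
    ∃ y ∈ R, y ≠ 1 ∧ y * y = 1 ∧ (∀ r ∈ R, r = 1 ∨ r = y) ∧ ∃ f : S →* ℤˣ, f y ≠ 1 := by
  classical
  haveI : Fact (Nat.Prime 2) := ⟨Nat.prime_two⟩
  haveI := h.two.isNilpotent
  haveI hAn : A.Normal := ⟨fun x hx g => by
    rwa [Subgroup.mem_center_iff.1 (h.central hx) g, mul_inv_cancel_right]⟩
  obtain ⟨y, hyR, hy2, hy1, hyR', hyM⟩ := h.exists_y
  set C := A ⊔ R with hC
  set M := Subgroup.normalizer (C : Set S) with hMdef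
  have hMconj : ∀ m ∈ M, ∀ x, x ∈ C ↔ m * x * m⁻¹ ∈ C := fun m hm => Subgroup.mem_normalizer_iff.1 hm
  have hCM : C ≤ M := Subgroup.le_normalizer
  set π : S →* S ⧸ A := QuotientGroup.mk' A with hπ
  have hπ0 : ∀ s, π s = 1 ↔ s ∈ A := fun s => QuotientGroup.eq_one_iff s
  set c : S → S := fun s => s * y * s⁻¹ * y⁻¹ with hc
  have hcm : ∀ {s t}, t ∈ M → c (s * t) = c t * c s := fun {s t} ht => comm_mul h.central (hyM t ht)
  have hc1 : ∀ s, c s = 1 → s ∈ C := fun s hs => h.mem_sup.2 (h.cent y hyR hy2 hy1 s (by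
    simp only [hc] at hs
    rwa [mul_inv_eq_one, mul_inv_eq_iff_eq_mul] at hs))
  have hcC : ∀ s ∈ C, c s = 1 := by
    intro s hs
    obtain ⟨α, hα, hr⟩ := h.mem_sup.1 hs
    have : Commute s y := by
      rw [← mul_inv_cancel_left α s]
      exact Commute.mul_left (Subgroup.mem_center_iff.1 (h.central hα) y).symm (hyR' _ hr)
    simp only [hc]
    rw [this.eq]; group
  have hcA : ∀ s ∈ M, c s ∈ A := fun s hs => hyM s hs
  have heC : ∀ (e : S ≃* S), (∀ r ∈ R, e r = r) → (∀ z, e z ∈ A ↔ z ∈ A) → ∀ x, e x ∈ C ↔ x ∈ C := by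
    intro e heR heA x
    constructor
    · intro hx
      obtain ⟨α, hα, hr⟩ := h.mem_sup.1 hx
      obtain ⟨β, rfl⟩ := e.surjective α
      refine h.mem_sup.2 ⟨β, (heA β).1 hα, ?_⟩
      have h1 : e (β⁻¹ * x) = e ((e β)⁻¹ * e x) := by
        rw [heR _ hr, map_mul, map_inv]
      rw [e.injective h1]
      exact hr
    · intro hx
      obtain ⟨α, hα, hr⟩ := h.mem_sup.1 hx
      refine h.mem_sup.2 ⟨e α, (heA α).2 hα, ?_⟩
      rw [← map_inv, ← map_mul, heR _ hr]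
      exact hr
  have heM : ∀ (e : S ≃* S), (∀ r ∈ R, e r = r) → (∀ z, e z ∈ A ↔ z ∈ A) → ∀ m ∈ M, e m ∈ M := by
    intro e heR heA m hm
    rw [hMdef, Subgroup.mem_normalizer_iff]
    intro x
    obtain ⟨x, rfl⟩ := e.surjective x
    rw [← map_inv, ← map_mul, ← map_mul, heC e heR heA, heC e heR heA]
    exact hMconj m hm x
  have hec : ∀ (e : S ≃* S), (∀ r ∈ R, e r = r) → ∀ s, e (c s) = c (e s) := by
    intro e heR s
    simp only [hc, map_mul, map_inv, heR y hyR]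
  have hCtop : C ≠ ⊤ := by
    intro e
    have h1 := h.card_sup
    rw [← hC, e, Subgroup.card_top] at h1
    have h2 := h.big
    rw [h1] at h2
    have h3 : 0 < Nat.card A := Nat.card_pos
    exact absurd h2 (not_lt.2 (Nat.mul_le_mul_right _ (Nat.le_mul_of_pos_right _ h3)))
  obtain ⟨s₀, hs₀M, hs₀C⟩ : ∃ s ∈ M, s ∉ C :=
    SetLike.exists_of_lt (Group.normalizerCondition_of_isNilpotent C hCtop.lt_top)
  have hs₀1 : c s₀ ≠ 1 := fun e => hs₀C (hc1 _ e)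
  have hsurj : ∀ α ∈ A, ∃ s ∈ M, c s = α := by
    intro α hα
    by_cases hα1 : α = 1
    · exact ⟨1, M.one_mem, by rw [hα1]; simp [hc]⟩
    obtain ⟨e, heR, heA, hex⟩ := h.auts _ (hcA _ hs₀M) hs₀1 α hα hα1
    exact ⟨e s₀, heM e heR heA _ hs₀M, by rw [← hec e heR, hex]⟩
  have hsame : ∀ s ∈ M, ∀ t ∈ M, c s = c t → s⁻¹ * t ∈ C := by
    intro s hs t ht e
    refine hc1 _ ?_
    have h1 : c (s * (s⁻¹ * t)) = c (s⁻¹ * t) * c s := hcm (mul_mem (inv_mem hs) ht)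
    rw [mul_inv_cancel_left, ← e] at h1
    exact (right_eq_mul.1 h1)
  -- elements centralising `C` modulo `A`
  set K₀ : Subgroup S := M ⊓ (Subgroup.centralizer (π '' (C : Set S))).comap π with hK₀
  have hK : ∀ s, s ∈ K₀ ↔ s ∈ M ∧ ∀ x ∈ C, Commute (π x) (π s) := fun s => by
    simp [hK₀, Subgroup.mem_centralizer_iff, Commute, SemiconjBy]
  obtain ⟨κ, hκM, hκC, hκ⟩ : ∃ κ ∈ M, κ ∉ C ∧ κ ∈ K₀ := by
    obtain ⟨x₁, x₂, hx₁, hx₂, hx₁1, hx₂1, hx12⟩ := h.three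
    obtain ⟨α, hα, hα1, hαne⟩ : ∃ α ∈ A, α ≠ 1 ∧ α ≠ c s₀ := by
      by_cases e : x₁ = c s₀
      · exact ⟨x₂, hx₂, hx₂1, fun e2 => hx12 (e.trans e2.symm)⟩
      · exact ⟨x₁, hx₁, hx₁1, e⟩
    obtain ⟨s, hs, hsc⟩ := hsurj α hα
    have hsx : s * s₀ ∈ M := mul_mem hs hs₀M
    have hcsx : c (s * s₀) = c s₀ * c s := hcm hs₀M
    have hne : c (s * s₀) ≠ 1 := by
      rw [hcsx, hsc]
      intro e
      refine hαne ?_
      rw [eq_inv_of_mul_eq_one_right e]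
      exact inv_eq_of_mul_eq_one_left (h.elementary _ (hcA _ hs₀M))
    obtain ⟨e, heR, heA, hex⟩ := h.auts _ (hcA _ hs) (hsc ▸ hα1) _ (hcA _ hsx) hne
    have hγ : (e s)⁻¹ * (s * s₀) ∈ C :=
      hsame _ (heM e heR heA _ hs) _ hsx (by rw [← hec e heR, hex])
    have hK' : s⁻¹ * e s ∈ K₀ := by
      refine (hK _).2 ⟨mul_mem (inv_mem hs) (heM e heR heA _ hs), fun x hx => ?_⟩
      have hid : ∀ x ∈ C, π (e x) = π x := by
        intro x hx
        obtain ⟨β, hβ, hr⟩ := h.mem_sup.1 hx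
        rw [show e x = e β * (β⁻¹ * x) by rw [← heR _ hr, ← map_mul, mul_inv_cancel_left],
          map_mul, map_mul, (hπ0 _).2 ((heA β).2 hβ), map_inv, (hπ0 β).2 hβ, inv_one, one_mul,
          one_mul]
      have h1 := hid _ ((hMconj s hs x).1 hx)
      simp only [map_mul, map_inv] at h1
      rw [hid x hx] at h1
      show π x * π (s⁻¹ * e s) = π (s⁻¹ * e s) * π x
      rw [map_mul, map_inv]
      calc π x * ((π s)⁻¹ * π (e s)) = (π s)⁻¹ * (π s * π x * (π s)⁻¹) * π (e s) := by group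
        _ = (π s)⁻¹ * (π (e s) * π x * (π (e s))⁻¹) * π (e s) := by rw [h1]
        _ = _ := by group
    refine ⟨s⁻¹ * e s, ((hK _).1 hK').1, fun hin => hs₀C ?_, hK'⟩
    have := mul_mem hin hγ
    rwa [show s⁻¹ * e s * ((e s)⁻¹ * (s * s₀)) = s₀ by group] at this
  -- hence `R` is elementary abelian
  have hκA : ∀ r ∈ R, κ * r * κ⁻¹ * r⁻¹ ∈ A := fun r hr => by
    rw [← hπ0, map_mul, map_mul, map_mul, map_inv, map_inv, mul_inv_eq_one, mul_inv_eq_iff_eq_mul]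
    exact (((hK κ).1 hκ).2 r (Subgroup.mem_sup_right hr)).symm
  have hψinj : ∀ r ∈ R, κ * r * κ⁻¹ * r⁻¹ = 1 → r = 1 := by
    intro r hr he
    by_contra hr1
    have hcom : Commute κ r := by rwa [mul_inv_eq_one, mul_inv_eq_iff_eq_mul] at he
    obtain ⟨j, hj⟩ : ∃ j : ℕ, orderOf (r ^ j) = 2 := by
      obtain ⟨k, hk⟩ := IsPGroup.iff_orderOf.1 h.two r
      obtain ⟨k, rfl⟩ : ∃ i, k = i + 1 := Nat.exists_eq_succ_of_ne_zero fun h0 => hr1 (by
        rw [h0, pow_zero, orderOf_eq_one_iff] at hk; exact hk)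
      refine ⟨2 ^ k, ?_⟩
      rw [orderOf_pow' _ (by positivity), hk, pow_succ, Nat.gcd_eq_right (dvd_mul_right (2 ^ k) 2),
        Nat.mul_div_cancel_left _ (by positivity)]
    have hj2 : r ^ j * r ^ j = 1 := by rw [← pow_two, ← hj, pow_orderOf_eq_one]
    exact hκC (h.mem_sup.2 (h.cent _ (pow_mem hr j) hj2 (fun e => by simp [e] at hj) κ
      (hcom.pow_right j)))
  have hR2 : ∀ r ∈ R, r * r = 1 := by
    intro r hr
    refine hψinj _ (mul_mem hr hr) ?_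
    have hcen := Subgroup.mem_center_iff.1 (h.central (hκA r hr)) r
    calc κ * (r * r) * κ⁻¹ * (r * r)⁻¹ =
          (κ * r * κ⁻¹ * r⁻¹) * (r * (κ * r * κ⁻¹ * r⁻¹)) * r⁻¹ := by group
      _ = (κ * r * κ⁻¹ * r⁻¹) * ((κ * r * κ⁻¹ * r⁻¹) * r) * r⁻¹ := by rw [hcen]
      _ = (κ * r * κ⁻¹ * r⁻¹) * (κ * r * κ⁻¹ * r⁻¹) := by group
      _ = 1 := h.elementary _ (hκA r hr)
  have hC2 : ∀ x ∈ C, x * x = 1 := by
    intro x hx
    obtain ⟨α, hα, hr⟩ := h.mem_sup.1 hx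
    have hcen := Subgroup.mem_center_iff.1 (h.central hα) (α⁻¹ * x)
    calc x * x = α * ((α⁻¹ * x) * α) * (α⁻¹ * x) := by group
      _ = α * (α * (α⁻¹ * x)) * (α⁻¹ * x) := by rw [hcen]
      _ = (α * α) * ((α⁻¹ * x) * (α⁻¹ * x)) := by group
      _ = 1 := by rw [h.elementary α hα, hR2 _ hr, one_mul]
  have hCcomm : ∀ x ∈ C, ∀ z ∈ C, Commute x z := fun x hx z hz => by
    have h1 := hC2 _ (mul_mem hx hz)
    have hx' := inv_eq_of_mul_eq_one_left (hC2 x hx)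
    have hz' := inv_eq_of_mul_eq_one_left (hC2 z hz)
    have h2 := (eq_inv_of_mul_eq_one_left h1)
    rw [mul_inv_rev, hx', hz'] at h2
    exact h2
  have hMK : ∀ m ∈ M, ∀ r ∈ R, m * r * m⁻¹ * r⁻¹ ∈ A := by
    -- every element of `M` is `κ' * γ` with `κ' ∈ K₀`, `γ ∈ C`
    intro m hm r hr
    suffices hmK : m ∈ K₀ by
      rw [← hπ0, map_mul, map_mul, map_mul, map_inv, map_inv, mul_inv_eq_one, mul_inv_eq_iff_eq_mul]
      exact (((hK m).1 hmK).2 r (Subgroup.mem_sup_right hr)).symm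
    have hCK : C ≤ K₀ := fun x hx => (hK x).2 ⟨hCM hx, fun z hz => (hCcomm z hz x hx).map π⟩
    by_cases hm1 : c m = 1
    · exact hCK (hc1 _ hm1)
    have hκ1 : c κ ≠ 1 := fun e => hκC (hc1 _ e)
    obtain ⟨e, heR, heA, hex⟩ := h.auts _ (hcA _ hκM) hκ1 _ (hcA _ hm) hm1
    have hγ : (e κ)⁻¹ * m ∈ C := hsame _ (heM e heR heA _ hκM) _ hm (by rw [← hec e heR, hex])
    have heK : e κ ∈ K₀ := by
      refine (hK _).2 ⟨heM e heR heA _ hκM, fun x hx => ?_⟩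
      obtain ⟨x, rfl⟩ := e.surjective x
      have hx' : x ∈ C := (heC e heR heA x).1 hx
      have h1 := ((hK κ).1 hκ).2 x hx'
      show π (e x) * π (e κ) = π (e κ) * π (e x)
      have h2 : (x * κ) * (κ * x)⁻¹ ∈ A := by
        rw [← hπ0, map_mul, map_inv, mul_inv_eq_one, map_mul, map_mul]
        exact h1
      have h3 := (heA _).2 h2
      rw [map_mul, map_inv, map_mul, map_mul, ← hπ0, map_mul, map_inv, mul_inv_eq_one, map_mul,
        map_mul] at h3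
      exact h3
    have := mul_mem heK (hCK hγ)
    rwa [mul_inv_cancel_left] at this
  have hcentM : ∀ r ∈ R, r ≠ 1 → ∀ m ∈ M, Commute m r → m ∈ C := fun r hr hr1 m _ hm =>
    h.mem_sup.2 (h.cent r hr (hR2 r hr) hr1 m hm)
  -- `M` is not the whole group
  have hMcard : Nat.card M = Nat.card A * Nat.card C := by
    let φ : M → A := fun m => ⟨c m.1, hcA _ m.2⟩
    have hφ : Function.Surjective φ := fun α => by
      obtain ⟨s, hs, hsc⟩ := hsurj _ α.2
      exact ⟨⟨s, hs⟩, Subtype.ext hsc⟩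
    choose σ hσ using hφ
    have hσc : ∀ α : A, c (σ α).1 = α.1 := fun α => congrArg Subtype.val (hσ α)
    rw [← Nat.card_prod]
    refine (Nat.card_eq_of_bijective (fun p : A × C => (⟨(σ p.1).1 * p.2,
      mul_mem (σ p.1).2 (hCM p.2.2)⟩ : M)) ⟨fun p p' e => ?_, fun m => ?_⟩).symm
    · have e' : (σ p.1).1 * (p.2 : S) = (σ p'.1).1 * p'.2 := congrArg Subtype.val e
      have h1 : c ((σ p.1).1 * p.2) = c ((σ p'.1).1 * p'.2) := by rw [e']
      rw [hcm (hCM p.2.2), hcm (hCM p'.2.2), hcC _ p.2.2, hcC _ p'.2.2, one_mul, one_mul,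
        hσc, hσc] at h1
      have h3 : p.1 = p'.1 := Subtype.ext h1
      rw [h3] at e'
      exact Prod.ext h3 (Subtype.ext (mul_left_cancel e'))
    · refine ⟨(φ m, ⟨(σ (φ m)).1⁻¹ * m.1, hsame _ (σ (φ m)).2 _ m.2 (hσc (φ m))⟩),
        Subtype.ext ?_⟩
      simp
  have hMtop : M ≠ ⊤ := by
    intro e
    rw [e, Subgroup.card_top, hC, h.card_sup, ← mul_assoc] at hMcard
    exact absurd h.big (not_lt.2 hMcard.le)
  set N := Subgroup.normalizer (M : Set S) with hNdef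
  have hMN : M ≤ N := Subgroup.le_normalizer
  obtain ⟨n₀, hn₀N, hn₀M⟩ : ∃ n ∈ N, n ∉ M :=
    SetLike.exists_of_lt (Group.normalizerCondition_of_isNilpotent M hMtop.lt_top)
  have hNconj : ∀ n ∈ N, ∀ x ∈ C, n * x * n⁻¹ ∈ M := fun n hn x hx =>
    (Subgroup.mem_normalizer_iff.1 hn x).1 (hCM hx)
  -- distinct conjugates of `C` meet in `A`
  have hmeet : ∀ n ∈ N, n ∉ M → ∀ x ∈ C, n * x * n⁻¹ ∈ C → x ∈ A := by
    intro n hn hnM x hx hxn
    by_contra hxA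
    have hnA : n * x * n⁻¹ ∉ A := fun hA => hxA (by
      rwa [← Subgroup.mem_center_iff.1 (h.central hA) n |> fun e => (show n⁻¹ * (n * x * n⁻¹) * n = n * x * n⁻¹ by
        rw [mul_assoc, ← e]; group), show n⁻¹ * (n * x * n⁻¹) * n = x by group] at hA)
    obtain ⟨α, hα, hr⟩ := h.mem_sup.1 hxn
    have hr1 : α⁻¹ * (n * x * n⁻¹) ≠ 1 := fun e => hnA (by
      rw [inv_mul_eq_one] at e; exact e ▸ hα)
    refine hnM ?_
    have hsub : ∀ z ∈ C, n * z * n⁻¹ ∈ C := fun z hz => by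
      refine hcentM _ hr hr1 _ (hNconj n hn z hz) ?_
      refine Commute.mul_right (Subgroup.mem_center_iff.1 (h.central (inv_mem hα)) _) ?_
      exact Commute.conj_iff n |>.2 (hCcomm z hz x hx)
    have hmap : C.map (MulAut.conj n).toMonoidHom = C :=
      Subgroup.eq_of_le_of_card_ge (by rintro _ ⟨z, hz, rfl⟩; exact hsub z hz)
        (by rw [Subgroup.card_map_of_injective (MulAut.conj n).injective])
    rw [hMdef, Subgroup.mem_normalizer_iff]
    refine fun z => ⟨fun hz => hsub z hz, fun hz => ?_⟩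
    rw [← hmap] at hz
    obtain ⟨w, hw, hwz⟩ := hz
    have hwz' : n * w * n⁻¹ = n * z * n⁻¹ := hwz
    exact mul_left_cancel (mul_right_cancel hwz') ▸ hw
  obtain ⟨r₁, hr₁, hr₁1⟩ := h.nontrivial
  have hnotC : ∀ n ∈ N, n ∉ M → ∀ r ∈ R, r ≠ 1 → n * r * n⁻¹ ∉ C := fun n hn hnM r hr hr1 hin =>
    hr1 (h.disjoint r (hmeet n hn hnM r (Subgroup.mem_sup_right hr) hin) hr)
  -- the coset values
  set M' := M.subgroupOf N with hM'
  let ν : N ⧸ M' → S := fun g => ((Quotient.out g : N) : S)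
  have hν : ∀ g : N ⧸ M', g ≠ ((1 : N) : N ⧸ M') → ν g ∈ N ∧ ν g ∉ M := by
    intro g hg
    refine ⟨(Quotient.out g).2, fun hin => hg ?_⟩
    rw [← QuotientGroup.out_eq' g, QuotientGroup.eq, mul_one]
    exact inv_mem (show Quotient.out g ∈ M' from hin)
  let T := {g : N ⧸ M' // g ≠ ((1 : N) : N ⧸ M')} × {r : R // r ≠ 1}
  have hTval : ∀ p : T, c (ν p.1.1 * p.2.1.1 * (ν p.1.1)⁻¹) ∈ A ∧
      c (ν p.1.1 * p.2.1.1 * (ν p.1.1)⁻¹) ≠ 1 := by
    intro p
    obtain ⟨h1, h2⟩ := hν _ p.1.2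
    refine ⟨hcA _ (hNconj _ h1 _ (Subgroup.mem_sup_right p.2.1.2)), fun e => ?_⟩
    exact hnotC _ h1 h2 _ p.2.1.2 (fun e' => p.2.2 (Subtype.ext e')) (hc1 _ e)
  let Φ : T → {α : A // α ≠ 1} := fun p =>
    ⟨⟨_, (hTval p).1⟩, fun e => (hTval p).2 (congrArg Subtype.val e)⟩
  have hinj : Function.Injective Φ := by
    rintro ⟨⟨g, hg⟩, ⟨⟨r, hr⟩, hr1⟩⟩ ⟨⟨g', hg'⟩, ⟨⟨r', hr'⟩, hr'1⟩⟩ e
    obtain ⟨hgN, hgM⟩ := hν g hg
    obtain ⟨hgN', hgM'⟩ := hν g' hg'
    have hr1' : r ≠ 1 := fun e' => hr1 (Subtype.ext e')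
    have hr1'' : r' ≠ 1 := fun e' => hr'1 (Subtype.ext e')
    set x := ν g * r * (ν g)⁻¹ with hx
    set x' := ν g' * r' * (ν g')⁻¹ with hx'
    have e' : c x = c x' := congrArg (fun z : {α : A // α ≠ 1} => (z.1 : S)) e
    have hxM : x ∈ M := hNconj _ hgN _ (Subgroup.mem_sup_right hr)
    have hxM' : x' ∈ M := hNconj _ hgN' _ (Subgroup.mem_sup_right hr')
    have hγ := hsame x hxM x' hxM' e'
    have hxx : x * x = 1 := by
      rw [hx, show ν g * r * (ν g)⁻¹ * (ν g * r * (ν g)⁻¹) = ν g * (r * r) * (ν g)⁻¹ by group,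
        hR2 r hr, mul_one, mul_inv_cancel]
    have hxx' : x' * x' = 1 := by
      rw [hx', show ν g' * r' * (ν g')⁻¹ * (ν g' * r' * (ν g')⁻¹) =
          ν g' * (r' * r') * (ν g')⁻¹ by group, hR2 r' hr', mul_one, mul_inv_cancel]
    have hγA : x⁻¹ * x' ∈ A := by
      obtain ⟨α, hα, hu⟩ := h.mem_sup.1 hγ
      by_contra hA
      have hu1 : α⁻¹ * (x⁻¹ * x') ≠ 1 := fun e'' => hA (by
        rw [inv_mul_eq_one] at e''; exact e'' ▸ hα)
      refine hnotC _ hgN hgM r hr hr1' (hcentM _ hu hu1 _ hxM ?_)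
      refine Commute.mul_right (Subgroup.mem_center_iff.1 (h.central (inv_mem hα)) _) ?_
      have hinv : (x⁻¹ * x') * (x⁻¹ * x') = 1 := hC2 _ hγ
      rw [inv_eq_of_mul_eq_one_left hxx] at hinv ⊢
      show x * (x * x') = x * x' * x
      have h5 : x * x' * x = x' := by
        have h6 := congrArg (fun z => z * x') hinv
        simpa [mul_assoc, hxx'] using h6
      rw [h5, ← mul_assoc, hxx, one_mul]
    set d := (ν g)⁻¹ * ν g' with hd
    have hconj : d * r' * d⁻¹ = r * (x⁻¹ * x') := by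
      have hcen := Subgroup.mem_center_iff.1 (h.central hγA) ((ν g)⁻¹)
      calc d * r' * d⁻¹ = (ν g)⁻¹ * x * (x⁻¹ * x') * ν g := by rw [hd, hx']; group
        _ = r * ((ν g)⁻¹ * (x⁻¹ * x')) * ν g := by rw [hx]; group
        _ = r * ((x⁻¹ * x') * (ν g)⁻¹) * ν g := by rw [hcen]
        _ = r * (x⁻¹ * x') := by group
    have hdN : d ∈ N := mul_mem (inv_mem hgN) hgN'
    have hdM : d ∈ M := by
      by_contra hdM
      refine hnotC d hdN hdM r' hr' hr1'' ?_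
      rw [hconj]
      exact mul_mem (Subgroup.mem_sup_right hr) (Subgroup.mem_sup_left hγA)
    have hgg : g = g' := by
      rw [← QuotientGroup.out_eq' g, ← QuotientGroup.out_eq' g', QuotientGroup.eq]
      exact hdM
    subst hgg
    have hrr : r' = r := by
      have h1 : d = 1 := inv_mul_cancel _
      rw [h1, one_mul, inv_one, mul_one] at hconj
      have h2 : r⁻¹ * r' ∈ A := by rw [hconj, inv_mul_cancel_left]; exact hγA
      exact (inv_mul_eq_one.1 (h.disjoint _ h2 (mul_mem (inv_mem hr) hr'))).symm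
    subst hrr
    rfl
  have hsur : Function.Surjective Φ := by
    rintro ⟨⟨α, hα⟩, hα1⟩
    have h1 := hnotC n₀ hn₀N hn₀M r₁ hr₁ hr₁1
    have hxM := hNconj n₀ hn₀N r₁ (Subgroup.mem_sup_right hr₁)
    obtain ⟨e, heR, heA, hex⟩ := h.auts _ (hcA _ hxM) (fun e' => h1 (hc1 _ e')) α hα
      (fun e' => hα1 (Subtype.ext e'))
    have heN : e n₀ ∈ N := by
      rw [hNdef, Subgroup.mem_normalizer_iff]
      intro z
      obtain ⟨z, rfl⟩ := e.surjective z
      have hM2 : ∀ w, e w ∈ M ↔ w ∈ M := fun w => by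
        refine ⟨fun hw => ?_, heM e heR heA w⟩
        have h2 := heM e.symm (fun r hr => e.symm_apply_eq.2 (heR r hr).symm)
          (fun z => by rw [← heA (e.symm z), e.apply_symm_apply]) _ hw
        rwa [e.symm_apply_apply] at h2
      rw [← map_inv, ← map_mul, ← map_mul, hM2, hM2]
      exact Subgroup.mem_normalizer_iff.1 hn₀N z
    have heM' : e n₀ ∉ M := fun hin => hn₀M (by
      have h2 := heM e.symm (fun r hr => e.symm_apply_eq.2 (heR r hr).symm)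
        (fun z => by rw [← heA (e.symm z), e.apply_symm_apply]) _ hin
      rwa [e.symm_apply_apply] at h2)
    set g : N ⧸ M' := ((⟨e n₀, heN⟩ : N) : N ⧸ M') with hg
    have hg1 : g ≠ ((1 : N) : N ⧸ M') := by
      rw [hg, Ne, QuotientGroup.eq, mul_one]
      exact fun hin => heM' (by simpa [hM', Subgroup.mem_subgroupOf] using hin)
    refine ⟨(⟨g, hg1⟩, ⟨⟨r₁, hr₁⟩, fun e' => hr₁1 (congrArg Subtype.val e')⟩), Subtype.ext
      (Subtype.ext ?_)⟩
    show c (ν g * r₁ * (ν g)⁻¹) = α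
    have hμ : (ν g)⁻¹ * e n₀ ∈ M := by
      have h2 : (Quotient.out g)⁻¹ * (⟨e n₀, heN⟩ : N) ∈ M' :=
        QuotientGroup.eq.1 (QuotientGroup.out_eq' g)
      exact h2
    obtain ⟨hgN, -⟩ := hν g hg1
    set μ := (ν g)⁻¹ * e n₀ with hμd
    have hA' := hMK μ hμ r₁ hr₁
    have hcen := Subgroup.mem_center_iff.1 (h.central hA') (ν g)
    have heq : e (n₀ * r₁ * n₀⁻¹) = (μ * r₁ * μ⁻¹ * r₁⁻¹) * (ν g * r₁ * (ν g)⁻¹) := by
      calc e (n₀ * r₁ * n₀⁻¹) = e n₀ * r₁ * (e n₀)⁻¹ := by rw [map_mul, map_mul, map_inv, heR r₁ hr₁]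
        _ = ν g * (μ * r₁ * μ⁻¹ * r₁⁻¹) * r₁ * (ν g)⁻¹ := by rw [hμd]; group
        _ = (μ * r₁ * μ⁻¹ * r₁⁻¹) * ν g * r₁ * (ν g)⁻¹ := by rw [hcen]
        _ = _ := by group
    have hcval : c (e (n₀ * r₁ * n₀⁻¹)) = α := by rw [← hec e heR, hex]
    rw [heq, hcm (hNconj _ hgN _ (Subgroup.mem_sup_right hr₁)), hcC _ (Subgroup.mem_sup_left hA'),
      mul_one] at hcval
    exact hcval
  -- two cosets only is impossible
  have hidx2 : M'.index ≠ 2 := by
    intro h2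
    obtain ⟨x₁, x₂, hx₁, hx₂, hx₁1, hx₂1, hx12⟩ := h.three
    set x := n₀ * r₁ * n₀⁻¹ with hx
    have hxM := hNconj n₀ hn₀N r₁ (Subgroup.mem_sup_right hr₁)
    have hx1 : c x ≠ 1 := fun e' => hnotC n₀ hn₀N hn₀M r₁ hr₁ hr₁1 (hc1 _ e')
    obtain ⟨β, hβ, hβ1, hβne⟩ : ∃ β ∈ A, β ≠ 1 ∧ β ≠ c x := by
      by_cases e : x₁ = c x
      · exact ⟨x₂, hx₂, hx₂1, fun e2 => hx12 (e.trans e2.symm)⟩
      · exact ⟨x₁, hx₁, hx₁1, e⟩
    obtain ⟨e, heR, heA, hex⟩ := h.auts _ (hcA _ hxM) hx1 β hβ hβ1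
    have hesym : ∀ w, e w ∈ M ↔ w ∈ M := fun w => by
      refine ⟨fun hw => ?_, heM e heR heA w⟩
      have h3 := heM e.symm (fun r hr => e.symm_apply_eq.2 (heR r hr).symm)
        (fun z => by rw [← heA (e.symm z), e.apply_symm_apply]) _ hw
      rwa [e.symm_apply_apply] at h3
    have heN : e n₀ ∈ N := by
      rw [hNdef, Subgroup.mem_normalizer_iff]
      intro z
      obtain ⟨z, rfl⟩ := e.surjective z
      rw [← map_inv, ← map_mul, ← map_mul, hesym, hesym]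
      exact Subgroup.mem_normalizer_iff.1 hn₀N z
    have hμ : n₀⁻¹ * e n₀ ∈ M := by
      have h3 : (⟨n₀, hn₀N⟩ : N)⁻¹ * ⟨e n₀, heN⟩ ∈ M' := by
        rw [Subgroup.mul_mem_iff_of_index_two h2]
        simp only [inv_mem_iff, hM', Subgroup.mem_subgroupOf]
        simp [hn₀M, hesym]
      exact h3
    set μ := n₀⁻¹ * e n₀ with hμd
    have hA' := hMK μ hμ r₁ hr₁
    have hcen := Subgroup.mem_center_iff.1 (h.central hA') n₀
    have heq : e x = (μ * r₁ * μ⁻¹ * r₁⁻¹) * x := by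
      calc e x = e n₀ * r₁ * (e n₀)⁻¹ := by rw [hx, map_mul, map_mul, map_inv, heR r₁ hr₁]
        _ = n₀ * (μ * r₁ * μ⁻¹ * r₁⁻¹) * r₁ * n₀⁻¹ := by rw [hμd]; group
        _ = (μ * r₁ * μ⁻¹ * r₁⁻¹) * n₀ * r₁ * n₀⁻¹ := by rw [hcen]
        _ = _ := by rw [hx]; group
    refine hβne ?_
    rw [← hex, hec e heR, heq, hcm hxM, hcC _ (Subgroup.mem_sup_left hA'), mul_one]
  -- counting
  have hcount : (M'.index - 1) * (Nat.card R - 1) = Nat.card A - 1 := by
    haveI := Fintype.ofFinite (N ⧸ M')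
    haveI := Fintype.ofFinite A
    haveI := Fintype.ofFinite R
    have h1 := Nat.card_eq_of_bijective Φ ⟨hinj, hsur⟩
    rw [Nat.card_prod, Nat.card_eq_fintype_card, Nat.card_eq_fintype_card, Nat.card_eq_fintype_card,
      Fintype.card_subtype_compl, Fintype.card_subtype_eq, Fintype.card_subtype_compl,
      Fintype.card_subtype_eq, Fintype.card_subtype_compl, Fintype.card_subtype_eq,
      ← Nat.card_eq_fintype_card, ← Nat.card_eq_fintype_card, ← Nat.card_eq_fintype_card] at h1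
    exact h1
  obtain ⟨i, hi⟩ := (h.two.to_subgroup N).index M'
  obtain ⟨ρ, hρ⟩ := IsPGroup.iff_card.1 (h.two.to_subgroup R)
  obtain ⟨ε, hε⟩ := IsPGroup.iff_card.1 (h.two.to_subgroup A)
  have hi0 : i ≠ 0 := fun e => by
    rw [e, pow_zero, Subgroup.index_eq_one, hM', Subgroup.subgroupOf_eq_top] at hi
    exact hn₀M (hi hn₀N)
  have hi1 : i ≠ 1 := fun e => hidx2 (by rw [hi, e, pow_one])
  have hε2 : 2 ≤ ε := by
    obtain ⟨x₁, x₂, hx₁, hx₂, hx₁1, hx₂1, hx12⟩ := h.three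
    by_contra hlt
    have h3 : 3 ≤ Nat.card A := by
      have hsub : ({1, x₁, x₂} : Set S) ⊆ (A : Set S) := by
        rintro z (rfl | rfl | rfl)
        exacts [A.one_mem, hx₁, hx₂]
      have h4 := Set.ncard_le_ncard hsub (Set.toFinite _)
      rw [Set.ncard_insert_of_notMem (by simp [Ne.symm hx₁1, Ne.symm hx₂1]), Set.ncard_pair hx12]
        at h4
      exact h4
    rw [hε] at h3
    have : 2 ^ ε ≤ 2 ^ 1 := Nat.pow_le_pow_right (by norm_num) (by omega)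
    omega
  have hρ1 : ρ = 1 := by
    rw [hi, hρ, hε] at hcount
    have h4 : ∀ j, 2 ≤ j → ∃ a, 2 ^ j = 4 * a + 4 := by
      intro j hj
      obtain ⟨j, rfl⟩ : ∃ j', j = j' + 2 := ⟨j - 2, by omega⟩
      exact ⟨2 ^ j - 1, by rw [pow_add]; have := Nat.one_le_two_pow (n := j); omega⟩
    by_contra hρ1
    have hρ0 : ρ ≠ 0 := fun e => by
      rw [e, pow_zero, Subgroup.card_eq_one] at hρ
      exact hr₁1 (Subgroup.mem_bot.1 (hρ ▸ hr₁))
    obtain ⟨a, ha⟩ := h4 i (by omega)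
    obtain ⟨b, hb⟩ := h4 ρ (by omega)
    obtain ⟨d, hd⟩ := h4 ε hε2
    rw [ha, hb, hd] at hcount
    have h5 : (4 * a + 3) * (4 * b + 3) = 4 * d + 3 := by simpa using hcount
    have h6 : (4 * a + 3) * (4 * b + 3) = 4 * (4 * a * b + 3 * a + 3 * b + 2) + 1 := by ring
    omega
  have hRy : ∀ r ∈ R, r = 1 ∨ r = y := by
    intro r hr
    by_contra hne
    push Not at hne
    have hsub : ({1, y, r} : Set S) ⊆ (R : Set S) := by
      rintro z (rfl | rfl | rfl)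
      exacts [R.one_mem, hyR, hr]
    have h3 := Set.ncard_le_ncard hsub (Set.toFinite _)
    rw [Set.ncard_insert_of_notMem (by simp [Ne.symm hy1, Ne.symm hne.1]),
      Set.ncard_pair (Ne.symm hne.2)] at h3
    have h4 : Nat.card R = 2 := by rw [hρ, hρ1, pow_one]
    have h5 : 3 ≤ Nat.card R := h3
    omega
  refine ⟨y, hyR, hy1, hy2, hRy, two_lemma h.two h.central h.elementary hy2
    (fun hA => hy1 (h.disjoint y hA hyR)) (fun s hs => ?_) h.three fun x hx hx1 x' hx' hx'1 => ?_⟩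
  · obtain ⟨α, hα, hr⟩ := h.cent y hyR hy2 hy1 s hs
    rcases hRy _ hr with e | e
    · left
      rw [inv_mul_eq_one] at e
      exact e ▸ hα
    · right
      rw [inv_mul_eq_iff_eq_mul] at e
      rw [e, ← mul_assoc, Subgroup.mem_center_iff.1 (h.central hα) y, mul_assoc, hy2, mul_one]
      exact hα
  · obtain ⟨e, heR, heA, hex⟩ := h.auts x hx hx1 x' hx' hx'1
    exact ⟨e, heR y hyR, heA, hex⟩

end Cfsg.Agent.Involutions.RankOne.Saturation
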