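import Cfsg.Agent.Lib.Involutions.RankOne.Saturation.Swaps
import Cfsg.Agent.Lib.Involutions.RankOne.Saturation.TwoGroup
import Cfsg.Agent.Lib.Involutions.ThompsonTransfer

/-!
# Two-point stabilisers have odd order

An involution `y` fixing two points has two-point Sylow group `{1, y}`; then a character of the
Sylow group at `a` separates all conjugates of `y` from its kernel, against Thompson's transfer.
-/

set_option autoImplicit false
set_option linter.unusedSectionVars false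
set_option linter.style.haveILetI false

namespace Cfsg.Agent.Involutions.RankOne.Saturation

open MulAction Involutions.Basic

variable {G Ω : Type*} [Group G] [MulAction G Ω] [FaithfulSMul G Ω] [Finite G] [Finite Ω]
variable {a : Ω} {U : Subgroup G} (hS : Sat G a U)
include hS

/-- The hypotheses of `Core` for the 2-elements at `a`. -/
theorem Sat.core [IsSimpleGroup G] (heven : Even (Nat.card G)) {T V : Subgroup G} {k W : ℕ}
    (hP : Parts a U T V k W) {b : Ω} (hb : b ≠ a) {y₀ : G} (hy : orderOf y₀ = 2) (hyT : y₀ ∈ T)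
    (hyb : y₀ • b = b) :
    Core ((cenTwo G a).subgroupOf T) ((stabilizer G b).subgroupOf T) := by
  haveI : Fact (Nat.Prime 2) := ⟨Nat.prime_two⟩
  obtain ⟨hfix, hcent⟩ := hS.fix_frame heven hP hb hy hyT hyb
  obtain ⟨-, hqk⟩ := hS.fix_count heven hP hy ((hP.memT y₀).1 hyT).1 hb hyb
  obtain ⟨z, z', hz, hz', hne⟩ := hS.exists_good_pair heven
  have hAT : cenTwo G a ≤ T := fun α hα =>
    (hP.memT α).2 ⟨(mem_cenTwo.1 hα).2.1, Two.of_sq (mem_cenTwo.1 hα).1⟩
  refine
    { two := fun x => ?_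
      central := fun α hα => ?_
      elementary := fun α hα => Subtype.ext (mem_cenTwo.1 hα).1
      disjoint := fun α hα hR => ?_
      nontrivial := ⟨⟨y₀, hyT⟩, hyb, fun e => ne_one hy (congrArg Subtype.val e)⟩
      cent := fun r hr hr2 hr1 s hs => ?_
      three := ⟨⟨z, hAT hz.1⟩, ⟨z', hAT hz'.1⟩, hz.1, hz'.1,
        fun e => hz.2 (congrArg Subtype.val e), fun e => hz'.2 (congrArg Subtype.val e),
        fun e => hne (congrArg Subtype.val e)⟩
      auts := fun x hx hx1 x' hx' hx'1 => ?_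
      big := ?_ }
  · obtain ⟨j, hj⟩ := ((hP.memT _).1 x.2).2
    exact ⟨j, Subtype.ext (by simpa using hj)⟩
  · rw [Subgroup.mem_center_iff]
    exact fun s => Subtype.ext
      (((mem_cenTwo.1 hα).2.2 s.1 ((hP.memT _).1 s.2).1 ((hP.memT _).1 s.2).2).eq)
  · by_contra h1
    exact hb (hS.good_unique ⟨hα, fun e => h1 (Subtype.ext e)⟩ hR)
  · obtain ⟨α, hα, h⟩ := hcent r.1 r.2 hr
      (orderOf_two_iff.2 ⟨congrArg Subtype.val hr2, fun e => hr1 (Subtype.ext e)⟩) s.1 s.2
      (congrArg Subtype.val hs)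
    exact ⟨⟨α, hAT hα⟩, hα, h⟩
  · obtain ⟨k₀, hka, hkc, hkx⟩ := hS.exists_mover heven hP hb hy hyT hyb
      (show GoodAt x.1 a from ⟨hx, fun e => hx1 (Subtype.ext e)⟩)
      (show GoodAt x'.1 a from ⟨hx', fun e => hx'1 (Subtype.ext e)⟩)
    have hk' : k₀⁻¹ • a = a := inv_smul_eq_iff.2 hka.symm
    have hmem : ∀ s ∈ T, ∀ g : G, g • a = a → g * s * g⁻¹ ∈ T := fun s hs g hg =>
      (hP.memT _).2 ⟨by rw [mul_smul, mul_smul, inv_smul_eq_iff.2 hg.symm, ((hP.memT s).1 hs).1, hg],
        ((hP.memT s).1 hs).2.conj g⟩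
    let e : T ≃* T :=
      { toFun := fun s => ⟨k₀ * s.1 * k₀⁻¹, hmem _ s.2 _ hka⟩
        invFun := fun s => ⟨k₀⁻¹ * s.1 * k₀, by simpa using hmem _ s.2 _ hk'⟩
        left_inv := fun s => Subtype.ext (by
          show k₀⁻¹ * (k₀ * s.1 * k₀⁻¹) * k₀ = s.1
          group)
        right_inv := fun s => Subtype.ext (by
          show k₀ * (k₀⁻¹ * s.1 * k₀) * k₀⁻¹ = s.1
          group)
        map_mul' := fun s s' => Subtype.ext (by
          show k₀ * (s.1 * s'.1) * k₀⁻¹ = k₀ * s.1 * k₀⁻¹ * (k₀ * s'.1 * k₀⁻¹)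
          group) }
    refine ⟨e, fun r hr => Subtype.ext ?_, fun s => ?_, Subtype.ext hkx⟩
    · show k₀ * r.1 * k₀⁻¹ = r.1
      rw [(hkc r.1 r.2 hr).eq, mul_inv_cancel_right]
    · show k₀ * s.1 * k₀⁻¹ ∈ cenTwo G a ↔ s.1 ∈ cenTwo G a
      refine ⟨fun h => ?_, fun h => ?_⟩
      · have := cenTwo_conj h k₀⁻¹
        rw [hk', show k₀⁻¹ * (k₀ * s.1 * k₀⁻¹) * k₀⁻¹⁻¹ = s.1 by group] at this
        exact this
      · have := cenTwo_conj h k₀
        rwa [hka] at this
  · have hA : Nat.card ((cenTwo G a).subgroupOf T) = Nat.card (cenTwo G a) :=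
      Nat.card_congr (Subgroup.subgroupOfEquivOfLe hAT).toEquiv
    have hR : (stabilizer G b).subgroupOf T = stabilizer T b := rfl
    have hTcard : 2 ^ k * Nat.card ((stabilizer G b).subgroupOf T) = Nat.card T := by
      rw [← hP.orbT b hb, Nat.card_congr (orbitEquivQuotientStabilizer T b), hR]
      exact (Subgroup.card_eq_card_quotient_mul_card_subgroup _).symm
    rw [← hTcard, hA]
    refine Nat.mul_lt_mul_of_pos_right ?_ Nat.card_pos
    have h3 := hS.three_le heven
    calc Nat.card (cenTwo G a) * Nat.card (cenTwo G a)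
        < Nat.card (cenTwo G a) * Nat.card (cenTwo G a) * Nat.card (cenTwo G a) :=
          lt_mul_of_one_lt_right (by positivity) (by omega)
      _ = Nat.card (cenTwo G a) ^ 3 := by ring
      _ ≤ 2 ^ k := hqk

/-- No involution fixes two points. -/
theorem Sat.no_involution_two [IsSimpleGroup G] (heven : Even (Nat.card G)) {y₀ : G}
    (hy : orderOf y₀ = 2) (hya : y₀ • a = a) {b : Ω} (hb : b ≠ a) (hyb : y₀ • b = b) : False := by
  classical
  haveI : Fact (Nat.Prime 2) := ⟨Nat.prime_two⟩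
  obtain ⟨T, V, k, W, hP⟩ := hS.exists_parts hb
  have hyT : y₀ ∈ T := (hP.memT y₀).2 ⟨hya, Two.of_order_two hy⟩
  obtain ⟨y, hyR, hy1, hy2, hRy, f, hf⟩ := (hS.core heven hP hb hy hyT hyb).result
  obtain ⟨P, hPmem⟩ := hS.exists_sylow
  have hPT : (P : Subgroup G) = T := by
    ext x
    exact (hPmem x).trans (hP.memT x).symm
  set M := f.ker.map T.subtype with hM
  have hrange : f.range = ⊤ := by
    refine eq_top_iff.2 fun u _ => ?_
    rcases Int.units_eq_one_or u with rfl | rfl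
    · exact one_mem _
    · exact ⟨y, (Int.units_eq_one_or (f y)).resolve_left hf⟩
  have hrel : M.relIndex P = 2 := by
    rw [hPT, Subgroup.relIndex, hM, Subgroup.subgroupOf,
      Subgroup.comap_map_eq_self_of_injective T.subtype_injective, Subgroup.index_ker, hrange,
      Nat.card_congr Subgroup.topEquiv.toEquiv, Nat.card_eq_fintype_card]
    rfl
  have hG : ∀ H : Subgroup G, H.index ≠ 2 := by
    intro H hH
    haveI := Subgroup.normal_of_index_eq_two hH
    rcases IsSimpleGroup.eq_bot_or_eq_top_of_normal H inferInstance with e | e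
    · rw [e, Subgroup.index_bot] at hH
      have h3 := hS.three_le heven
      have h4 : Nat.card (cenTwo G a) ≤ Nat.card G :=
        Nat.le_of_dvd Nat.card_pos (Subgroup.card_subgroup_dvd_card _)
      omega
    · rw [e, Subgroup.index_top] at hH
      omega
  have hyo : orderOf (y : G) = 2 :=
    orderOf_two_iff.2 ⟨congrArg Subtype.val hy2, fun e => hy1 (Subtype.ext e)⟩
  obtain ⟨g, hg⟩ := ThompsonTransfer.exists_conj_mem hG P M
    (hPT ▸ Subgroup.map_subtype_le f.ker) hrel (y : G) hyo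
  obtain ⟨x, hx, hxg⟩ := hg
  have hxg' : (x : G) = g * (y : G) * g⁻¹ := hxg
  have hyfix := ((hP.memT _).1 y.2).1
  have hxfix : (y : G) • (g⁻¹ • a) = g⁻¹ • a := by
    have h := ((hP.memT _).1 x.2).1
    rw [hxg', mul_smul, mul_smul] at h
    exact eq_inv_smul_iff.2 h
  obtain ⟨d, hdy, hd⟩ := hS.exists_centralizing_move heven hyo hyfix hxfix
  set h := g * d with hh
  have hha : h • a = a := by rw [hh, mul_smul, hd, smul_inv_smul]
  have hxh : (x : G) = h * (y : G) * h⁻¹ := by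
    rw [hxg', hh, show g * d * (y : G) * (g * d)⁻¹ = g * (d * y) * d⁻¹ * g⁻¹ by group, hdy.eq]
    group
  obtain ⟨w, hw, hwb⟩ := hS.trans b (h • b) hb
    fun e => hb (MulAction.injective h (e.trans hha.symm))
  set δ := w⁻¹ * h with hδ
  have hδa : δ • a = a := by rw [hδ, mul_smul, hha, inv_smul_eq_iff, hS.fixA hw]
  have hδb : δ • b = b := by rw [hδ, mul_smul, inv_smul_eq_iff, hwb]
  have hδT : δ * (y : G) * δ⁻¹ ∈ T := (hP.memT _).2
    ⟨by rw [mul_smul, mul_smul, inv_smul_eq_iff.2 hδa.symm, hyfix, hδa],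
      ((hP.memT _).1 y.2).2.conj δ⟩
  have hδy : δ * (y : G) * δ⁻¹ = y := by
    rcases hRy ⟨_, hδT⟩ (show (δ * (y : G) * δ⁻¹) • b = b by
      rw [mul_smul, mul_smul, inv_smul_eq_iff.2 hδb.symm, show (y : G) • b = b from hyR, hδb]) with e | e
    · exact absurd (conj_eq_one_iff.1 (congrArg Subtype.val e)) (ne_one hyo)
    · exact congrArg Subtype.val e
  obtain ⟨s, hs, v, hv, rfl⟩ := hP.decomp w hw
  have hxs : x = ⟨s, hs⟩ * y * ⟨s, hs⟩⁻¹ := by
    refine Subtype.ext ?_
    show (x : G) = s * (y : G) * s⁻¹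
    calc (x : G) = s * v * (δ * (y : G) * δ⁻¹) * (s * v)⁻¹ := by rw [hxh, hδ]; group
      _ = s * (v * (y : G)) * v⁻¹ * s⁻¹ := by rw [hδy]; group
      _ = _ := by rw [← (hP.comm _ y.2 v hv).eq]; group
  have hfx : f x = f y := by rw [hxs, map_mul, map_mul, map_inv, mul_inv_cancel_comm]
  exact hf (hfx ▸ MonoidHom.mem_ker.1 hx)

/-- All two-point stabilisers have odd order. -/
theorem Sat.odd_two_point [IsSimpleGroup G] (heven : Even (Nat.card G)) {c d : Ω} (hcd : c ≠ d) :
    Odd (Nat.card ↥(stabilizer G c ⊓ stabilizer G d)) := by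
  by_contra ho
  haveI : Fact (Nat.Prime 2) := ⟨Nat.prime_two⟩
  obtain ⟨⟨y, hym⟩, hy⟩ := exists_prime_orderOf_dvd_card'
    (G := ↥(stabilizer G c ⊓ stabilizer G d)) 2 (even_iff_two_dvd.1 (Nat.not_odd_iff_even.1 ho))
  rw [Subgroup.orderOf_mk] at hy
  obtain ⟨hyc, hyd⟩ := hym
  obtain ⟨g, hg⟩ := hS.exists_to_a c
  refine hS.no_involution_two heven (y₀ := g * y * g⁻¹) ?_ ?_ (b := g • d) ?_ ?_
  · rw [orderOf_conj]
    exact hy
  · rw [mul_smul, mul_smul, inv_smul_eq_iff.2 hg.symm, show y • c = c from hyc, hg]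
  · exact fun e => hcd (MulAction.injective g (hg.trans e.symm))
  · rw [mul_smul, mul_smul, inv_smul_smul, show y • d = d from hyd]

end Cfsg.Agent.Involutions.RankOne.Saturation
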