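import Cfsg.Agent.Lib.Involutions.RankOne.Saturation.Orbits

/-!
# The fixed-point sets of the involutions fixing two points

All of them have `q W + 1` points, `q = |cenTwo a|`, and `q ^ 3` is at most the 2-part of `|Ω| - 1`.
-/

set_option autoImplicit false
set_option linter.unusedSectionVars false
set_option linter.style.haveILetI false

namespace Cfsg.Agent.Involutions.RankOne.Saturation

open MulAction Involutions.Basic

variable {G Ω : Type*} [Group G] [MulAction G Ω] [FaithfulSMul G Ω] [Finite G] [Finite Ω]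
variable {a : Ω} {U : Subgroup G} (hS : Sat G a U)
include hS

/-- A point has two good involutions. -/
theorem Sat.exists_good_pair [IsSimpleGroup G] (heven : Even (Nat.card G)) :
    ∃ z z' : G, GoodAt z a ∧ GoodAt z' a ∧ z ≠ z' := by
  by_contra hno
  push Not at hno
  obtain ⟨z, hz⟩ := hS.exists_good heven a
  have hiso : Cfsg.IsIsolatedInvolution z := by
    refine ⟨hz.order, fun g hc => ?_⟩
    have h1 := hz.conj g
    rw [← (hS.good_commute_iff hz h1).1 hc] at h1
    exact (hno z (g * z * g⁻¹) hz h1).symm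
  rcases IsSimpleGroup.eq_bot_or_eq_top_of_normal (Cfsg.oddCore G) inferInstance with hb | ht
  · have hcen : ∀ g : G, Commute g z := fun g => by
      have h := Agent.ZStar.Main.commutator_mem_oddCore hiso g
      rw [hb, Subgroup.mem_bot, mul_inv_eq_one, mul_inv_eq_iff_eq_mul] at h
      exact h.symm
    refine hz.2 (eq_of_smul_eq_smul (α := Ω) fun c => ?_)
    obtain ⟨g, hg⟩ := hS.exists_to_a c
    rw [one_smul]
    apply MulAction.injective g
    show g • z • c = g • c
    rw [← mul_smul, (hcen g).eq, mul_smul, hg, hz.fix]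
  · have hodd : Odd (Nat.card (Cfsg.oddCore G)) := Agent.InvChar.Core.odd_card_oddCore
    rw [ht, Subgroup.card_top] at hodd
    exact Nat.not_even_iff_odd.2 hodd heven

theorem Sat.three_le [IsSimpleGroup G] (heven : Even (Nat.card G)) :
    3 ≤ Nat.card (cenTwo G a) := by
  obtain ⟨z, z', hz, hz', hne⟩ := hS.exists_good_pair heven
  have hsub : ({1, z, z'} : Set G) ⊆ (cenTwo G a : Set G) := by
    rintro w (rfl | rfl | rfl)
    exacts [(cenTwo G a).one_mem, hz.1, hz'.1]
  have h := Set.ncard_le_ncard hsub (Set.toFinite _)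
  rw [Set.ncard_insert_of_notMem (by simp [Ne.symm hz.2, Ne.symm hz'.2]), Set.ncard_pair hne] at h
  exact h

theorem Sat.card_cenTwo_pow : ∃ e : ℕ, Nat.card (cenTwo G a) = 2 ^ e := by
  haveI : Fact (Nat.Prime 2) := ⟨Nat.prime_two⟩
  refine IsPGroup.iff_card.1 (fun x : cenTwo G a => ⟨1, Subtype.ext ?_⟩)
  push_cast
  rw [pow_two]
  exact (mem_cenTwo.1 x.2).1

/-- Involutions fixing `a` and another point have all the same number of fixed points. -/
theorem Sat.fix_count [IsSimpleGroup G] (heven : Even (Nat.card G)) {T V : Subgroup G} {k W : ℕ}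
    (hP : Parts a U T V k W) {y : G} (hy : orderOf y = 2) (hya : y • a = a) {b : Ω} (hb : b ≠ a)
    (hyb : y • b = b) :
    fixNum Ω y = Nat.card (cenTwo G a) * W + 1 ∧ Nat.card (cenTwo G a) ^ 3 ≤ 2 ^ k := by
  classical
  have hNG : NonGood Ω y := by
    refine ⟨hy, fun c hc => hb ?_⟩
    rw [hS.good_unique hc hyb, hS.good_unique hc hya]
  haveI := Fintype.ofFinite Ω
  haveI := Fintype.ofFinite G
  haveI : Fintype {h : G // GoodAt h a} := Fintype.ofFinite _
  set q := Nat.card (cenTwo G a) with hq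
  have hq3 : 3 ≤ q := hS.three_le heven
  let x : cenTwo G a → ℕ := fun h => fixNum Ω ((h : G) * y) - 1
  have hfix : ∀ h : cenTwo G a, fixNum Ω ((h : G) * y) = x h + 1 := by
    intro h
    have hpos : 0 < fixNum Ω ((h : G) * y) := by
      haveI : Nonempty {c : Ω // ((h : G) * y) • c = c} :=
        ⟨⟨a, by rw [mul_smul, hya, (mem_cenTwo.1 h.2).2.1]⟩⟩
      exact Nat.card_pos
    show fixNum Ω ((h : G) * y) = fixNum Ω ((h : G) * y) - 1 + 1
    omega
  set s := ∑ h, x h with hs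
  have heq : ∀ h₀ : cenTwo G a, ∃ r, r + x h₀ = s ∧ Nat.card Ω = (x h₀ + 1) * (1 + r) := by
    intro h₀
    have hcount := hS.count heven (hS.nonGood_mul hNG h₀.2 hya)
      (show ((h₀ : G) * y) • a = a by rw [mul_smul, hya, (mem_cenTwo.1 h₀.2).2.1])
    refine ⟨∑ g : {g : G // GoodAt g a}, (fixNum Ω (g.1 * ((h₀ : G) * y)) - 1), ?_, ?_⟩
    · have h1 : s = ∑ h, x (h * h₀) :=
        (Fintype.sum_equiv (Equiv.mulRight h₀) (fun h => x (h * h₀)) x fun _ => rfl).symm
      rw [h1, ← Finset.sum_erase_add Finset.univ (fun h : cenTwo G a => x (h * h₀))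
        (Finset.mem_univ 1), one_mul]
      congr 1
      refine Finset.sum_bij (fun g _ => (⟨g.1, g.2.1⟩ : cenTwo G a)) (fun g _ => ?_)
        (fun g _ g' _ e => Subtype.ext (congrArg (fun z : cenTwo G a => (z : G)) e)) (fun h hh => ?_) (fun g _ => ?_)
      · rw [Finset.mem_erase]
        exact ⟨fun e => g.2.2 (congrArg Subtype.val e), Finset.mem_univ _⟩
      · rw [Finset.mem_erase] at hh
        exact ⟨⟨h.1, h.2, fun e => hh.1 (Subtype.ext e)⟩, Finset.mem_univ _, rfl⟩
      · show fixNum Ω (g.1 * ((h₀ : G) * y)) - 1 = fixNum Ω (g.1 * (h₀ : G) * y) - 1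
        rw [mul_assoc]
    · rw [hcount, hfix, Nat.mul_add, mul_one]
  have hx1 : 0 < x 1 := by
    have h2 : 2 ≤ fixNum Ω y := by
      have hinj : Function.Injective (fun i : Fin 2 => if i = 0 then
          (⟨a, hya⟩ : {c : Ω // y • c = c}) else ⟨b, hyb⟩) := by
        intro i j
        fin_cases i <;> fin_cases j <;> simp [hb, Ne.symm hb]
      simpa [fixNum] using Nat.card_le_card_of_injective _ hinj
    show 0 < fixNum Ω (((1 : cenTwo G a) : G) * y) - 1
    rw [OneMemClass.coe_one, one_mul]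
    omega
  have hpos : ∀ h, 0 < x h := by
    intro h
    by_contra h0
    obtain ⟨r, hr, hn⟩ := heq h
    obtain ⟨r₁, hr₁, hn₁⟩ := heq 1
    rw [Nat.eq_zero_of_not_pos h0] at hr hn
    have h1 : x 1 * r₁ = 0 := by nlinarith
    rcases Nat.mul_eq_zero.1 h1 with h2 | h2
    · omega
    · subst h2
      have hall : fixNum Ω y = Nat.card Ω := by
        have := hfix 1
        rw [OneMemClass.coe_one, one_mul] at this
        rw [this, hn₁]; ring
      refine ne_one hy (eq_of_smul_eq_smul (α := Ω) fun c => ?_)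
      rw [one_smul]
      by_contra hc
      have hlt : fixNum Ω y < Nat.card Ω := by
        rw [fixNum, Nat.card_eq_fintype_card, Nat.card_eq_fintype_card]
        exact Fintype.card_subtype_lt hc
      omega
  have hall : ∀ h, x h = x 1 := by
    intro h
    by_contra hne
    obtain ⟨r, hr, hn⟩ := heq h
    obtain ⟨r₁, hr₁, hn₁⟩ := heq 1
    have h1 : x h + x 1 = s := by
      have e : ((x h : ℤ) - x 1) * ((s : ℤ) - x h - x 1) = 0 := by
        have e1 : ((r : ℤ) + x h) = s := by exact_mod_cast hr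
        have e2 : ((r₁ : ℤ) + x 1) = s := by exact_mod_cast hr₁
        have e3 : ((x h : ℤ) + 1) * (1 + r) = ((x 1 : ℤ) + 1) * (1 + r₁) := by
          exact_mod_cast hn.symm.trans hn₁
        have e1' : (r : ℤ) = s - x h := by omega
        have e2' : (r₁ : ℤ) = s - x 1 := by omega
        rw [e1', e2'] at e3
        linear_combination e3
      rcases mul_eq_zero.1 e with e4 | e4 <;> omega
    have hne1 : h ≠ 1 := fun e => hne (by rw [e])
    obtain ⟨h', hh'⟩ : ∃ h', h' ∉ ({h, 1} : Finset (cenTwo G a)) := by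
      by_contra hno
      push Not at hno
      have hle : Fintype.card (cenTwo G a) ≤ ({h, 1} : Finset (cenTwo G a)).card :=
        Finset.card_le_card fun z _ => hno z
      rw [Finset.card_pair hne1, ← Nat.card_eq_fintype_card] at hle
      omega
    have hsum : x h' + (x h + x 1) ≤ s := by
      rw [hs, ← Finset.sum_pair (f := x) hne1, ← Finset.sum_insert hh']
      exact Finset.sum_le_sum_of_subset (Finset.subset_univ _)
    have := hpos h'
    omega
  obtain ⟨r, hr, hn⟩ := heq 1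
  have hsq : s = q * x 1 := by
    rw [hs, Finset.sum_congr rfl fun h _ => hall h, Finset.sum_const, Finset.card_univ, smul_eq_mul,
      hq, Nat.card_eq_fintype_card]
  have hr' : r = (q - 1) * x 1 := by
    rw [Nat.sub_mul, one_mul]
    omega
  subst hr'
  have hfy : fixNum Ω y = x 1 + 1 := by
    have := hfix 1
    rwa [OneMemClass.coe_one, one_mul] at this
  have hxW : W ∣ x 1 := by
    have := hS.dvd_fix hP ((hP.memT y).2 ⟨hya, Two.of_order_two hy⟩)
    rwa [hfy, Nat.add_sub_cancel] at this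
  obtain ⟨t, ht⟩ := hxW
  have hW : 0 < W := hP.oddW.pos
  obtain ⟨e, he⟩ := hS.card_cenTwo_pow (a := a)
  rw [← hq] at he
  have he1 : 1 ≤ e := by
    rcases Nat.eq_zero_or_pos e with rfl | h
    · rw [pow_zero] at he; omega
    · exact h
  have hqq : q - 1 + 1 = q := by omega
  set u := (q - 1) * W with hu
  have huodd : Odd u := by
    refine Odd.mul ?_ hP.oddW
    rw [Nat.odd_iff]
    have : q % 2 = 0 := by
      rw [he, ← Nat.sub_add_cancel he1, pow_succ]; omega
    omega
  have hmain : t * (q + u * t) = 2 ^ k := by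
    have h1 := hP.points
    rw [hn, ht] at h1
    have h2 : W * t + 1 + (W * t + 1) * ((q - 1) * (W * t)) = 1 + 2 ^ k * W := by
      rw [← h1]; ring
    refine Nat.eq_of_mul_eq_mul_left hW ?_
    calc W * (t * (q + u * t)) = W * (t * (q - 1 + 1 + u * t)) := by rw [hqq]
      _ = W * t + (W * t + 1) * ((q - 1) * (W * t)) := by rw [hu]; ring
      _ = W * 2 ^ k := by rw [mul_comm W (2 ^ k)]; omega
  have hdvd : t ∣ 2 ^ k := ⟨_, hmain.symm⟩
  obtain ⟨i, -, rfl⟩ := (Nat.dvd_prime_pow Nat.prime_two).1 hdvd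
  have hdvd2 : q + u * 2 ^ i ∣ 2 ^ k := ⟨_, by rw [mul_comm]; exact hmain.symm⟩
  obtain ⟨j, -, hj⟩ := (Nat.dvd_prime_pow Nat.prime_two).1 hdvd2
  have hie : i = e := by
    rcases lt_trichotomy i e with h | h | h
    · exfalso
      have h1 : 2 ^ i * (2 ^ (e - i) + u) = 2 ^ j := by
        rw [mul_add, ← pow_add, show i + (e - i) = e by omega, ← hj, he]; ring
      have hodd : Odd (2 ^ (e - i) + u) := by
        obtain ⟨d, hd⟩ : ∃ d, e - i = d + 1 := ⟨e - i - 1, by omega⟩
        rw [Nat.odd_iff] at huodd ⊢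
        rw [hd, pow_succ]; omega
      have h2 : 2 ^ (e - i) + u ∣ 2 ^ j := ⟨_, by rw [mul_comm]; exact h1.symm⟩
      have h3 := ((Nat.coprime_two_right.2 hodd).pow_right j).eq_one_of_dvd h2
      have h4 : 2 ≤ 2 ^ (e - i) := by
        calc 2 = 2 ^ 1 := (pow_one 2).symm
          _ ≤ _ := Nat.pow_le_pow_right (by norm_num) (by omega)
      omega
    · exact h
    · exfalso
      have h1 : 2 ^ e * (1 + u * 2 ^ (i - e)) = 2 ^ j := by
        rw [mul_add, mul_one, mul_left_comm, ← pow_add, show e + (i - e) = i by omega, ← hj, he]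
      have hodd : Odd (1 + u * 2 ^ (i - e)) := by
        obtain ⟨d, hd⟩ : ∃ d, i - e = d + 1 := ⟨i - e - 1, by omega⟩
        rw [Nat.odd_iff, hd, pow_succ, ← mul_assoc]; omega
      have h2 : 1 + u * 2 ^ (i - e) ∣ 2 ^ j := ⟨_, by rw [mul_comm]; exact h1.symm⟩
      have h3 := ((Nat.coprime_two_right.2 hodd).pow_right j).eq_one_of_dvd h2
      have h4 : 0 < u * 2 ^ (i - e) := Nat.mul_pos huodd.pos (Nat.two_pow_pos _)
      omega
  subst hie
  refine ⟨?_, ?_⟩
  · rw [hfy, ht, ← he]; ring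
  · rw [← hmain, he]
    have h5 : 2 ^ i ≤ 1 + u := by
      have : q - 1 ≤ u := Nat.le_mul_of_pos_right _ hW
      omega
    calc (2 ^ i) ^ 3 = 2 ^ i * (2 ^ i * 2 ^ i) := by ring
      _ ≤ 2 ^ i * ((1 + u) * 2 ^ i) :=
          Nat.mul_le_mul_left _ (Nat.mul_le_mul_right _ h5)
      _ = 2 ^ i * (2 ^ i + u * 2 ^ i) := by ring

/-- The fixed points of the involutions of `T₀ = T ∩ G_b`: all of `T₀` fixes them, and an element of
`T` commuting with one of these involutions is in `cenTwo a * T₀`. -/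
theorem Sat.fix_frame [IsSimpleGroup G] (heven : Even (Nat.card G)) {T V : Subgroup G} {k W : ℕ}
    (hP : Parts a U T V k W) {b : Ω} (hb : b ≠ a) {y : G} (hy : orderOf y = 2) (hyT : y ∈ T)
    (hyb : y • b = b) :
    (∀ s ∈ T, s • b = b → ∀ c : Ω, y • c = c → s • c = c) ∧
      ∀ r ∈ T, r • b = b → orderOf r = 2 → ∀ s ∈ T, Commute s r →
        ∃ α ∈ cenTwo G a, (α⁻¹ * s) • b = b := by
  classical
  have hya := ((hP.memT y).1 hyT).1
  obtain ⟨hf, -⟩ := hS.fix_count heven hP hy hya hb hyb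
  have hAT : ∀ α ∈ cenTwo G a, α ∈ T := fun α hα =>
    (hP.memT α).2 ⟨(mem_cenTwo.1 hα).2.1, Two.of_sq (mem_cenTwo.1 hα).1⟩
  have hAc : ∀ α ∈ cenTwo G a, ∀ s ∈ T, Commute s α := fun α hα s hs =>
    (mem_cenTwo.1 hα).2.2 s ((hP.memT s).1 hs).1 ((hP.memT s).1 hs).2
  have hAb : ∀ α ∈ cenTwo G a, α • b = b → α = 1 := fun α hα h => by
    by_contra h1
    exact hb (hS.good_unique ⟨hα, h1⟩ h)
  have hne : ∀ u : G, u • a = a → ∀ c : Ω, c ≠ a → u • c ≠ a := fun u hu c hc e =>
    hc (MulAction.injective u (e.trans hu.symm))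
  -- the fixed points of `y` other than `a`
  have hmaps : ∀ α ∈ cenTwo G a, ∀ d ∈ orbit V b, α • d ≠ a ∧ y • α • d = α • d := by
    rintro α hα _ ⟨v, rfl⟩
    refine ⟨hne α (mem_cenTwo.1 hα).2.1 _ (hne _ (hS.fixA (hP.V_le v.2)) b hb), ?_⟩
    show y • α • ((v : G) • b) = α • ((v : G) • b)
    rw [← mul_smul, (hAc α hα y hyT).eq, mul_smul, ← mul_smul y, (hP.comm y hyT v.1 v.2).eq,
      mul_smul, hyb]
  have hsurj : ∀ c : Ω, c ≠ a → y • c = c → ∃ α ∈ cenTwo G a, ∃ v ∈ V, (α * v) • b = c := by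
    let F : cenTwo G a × orbit V b → {c : Ω // c ≠ a ∧ y • c = c} := fun p =>
      ⟨(p.1 : G) • (p.2 : Ω), hmaps p.1.1 p.1.2 p.2.1 p.2.2⟩
    have hinj : Function.Injective F := by
      rintro ⟨⟨α, hα⟩, ⟨_, ⟨v, rfl⟩⟩⟩ ⟨⟨α', hα'⟩, ⟨_, ⟨v', rfl⟩⟩⟩ e
      have e' : α • ((v : G) • b) = α' • ((v' : G) • b) := congrArg Subtype.val e
      have h1 : ((α'⁻¹ * α) * ((v' : G)⁻¹ * v)) • b = b := by
        have hc1 : Commute (v' : G)⁻¹ (α'⁻¹ * α) :=
          (hP.comm _ (mul_mem (inv_mem (hAT α' hα')) (hAT α hα)) _ (inv_mem v'.2)).symm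
        rw [← mul_assoc, ← hc1.eq, show (v' : G)⁻¹ * (α'⁻¹ * α) * (v : G) =
          (α' * (v' : G))⁻¹ * (α * v) by group, mul_smul, mul_smul α, e', ← mul_smul α',
          inv_smul_smul]
      obtain ⟨h2, h3⟩ := hP.split _ (mul_mem (inv_mem (hAT α' hα')) (hAT α hα)) _
        (mul_mem (inv_mem v'.2) v.2) b h1
      have hαα : α' = α := inv_mul_eq_one.1 (hAb _ (mul_mem (inv_mem hα') hα) h2)
      subst hαα
      rw [mul_smul, inv_smul_eq_iff] at h3
      refine Prod.ext rfl (Subtype.ext ?_)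
      exact h3
    have hcard : Nat.card {c : Ω // c ≠ a ∧ y • c = c} = Nat.card (cenTwo G a) * W := by
      haveI := Fintype.ofFinite Ω
      have e : {c : Ω // c ≠ a ∧ y • c = c} ≃ {d : {d : Ω // y • d = d} // d ≠ ⟨a, hya⟩} :=
        { toFun := fun d => ⟨⟨d.1, d.2.2⟩, fun e => d.2.1 (congrArg Subtype.val e)⟩
          invFun := fun d => ⟨d.1.1, fun e => d.2 (Subtype.ext e), d.1.2⟩
          left_inv := fun _ => rfl
          right_inv := fun _ => rfl }
      rw [Nat.card_congr e, Nat.card_eq_fintype_card, Fintype.card_subtype_compl,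
        Fintype.card_subtype_eq, ← Nat.card_eq_fintype_card]
      unfold fixNum at hf
      omega
    intro c hc hyc'
    have hbij := (Nat.bijective_iff_injective_and_card F).2
      ⟨hinj, by rw [Nat.card_prod, hP.orbV b hb, hcard]⟩
    obtain ⟨⟨⟨α, hα⟩, ⟨_, ⟨v, rfl⟩⟩⟩, e⟩ := hbij.2 ⟨c, hc, hyc'⟩
    exact ⟨α, hα, v, v.2, by rw [mul_smul]; exact congrArg Subtype.val e⟩
  have hpart1 : ∀ s ∈ T, s • b = b → ∀ c : Ω, y • c = c → s • c = c := by
    intro s hs hsb c hc
    by_cases hca : c = a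
    · rw [hca]; exact ((hP.memT s).1 hs).1
    obtain ⟨α, hα, v, hv, rfl⟩ := hsurj c hca hc
    rw [← mul_smul, ← mul_assoc, (hAc α hα s hs).eq, mul_assoc, (hP.comm s hs v hv).eq, ← mul_assoc,
      mul_smul, hsb]
  refine ⟨hpart1, fun r hrT hrb hr s hs hcom => ?_⟩
  obtain ⟨hfr, -⟩ := hS.fix_count heven hP hr ((hP.memT r).1 hrT).1 hb hrb
  have hsame : ∀ c : Ω, r • c = c → y • c = c := by
    intro c hc
    have hsub : {d : Ω | y • d = d} ⊆ {d : Ω | r • d = d} := fun d hd => hpart1 r hrT hrb d hd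
    have heq := Set.eq_of_subset_of_ncard_le hsub (by
      show fixNum Ω r ≤ fixNum Ω y
      omega) (Set.toFinite _)
    exact (heq.symm ▸ hc : c ∈ {d : Ω | y • d = d})
  have hsa := ((hP.memT s).1 hs).1
  obtain ⟨α, hα, v, hv, h⟩ := hsurj (s • b) (hne s hsa b hb)
    (hsame _ (by rw [← mul_smul, ← hcom.eq, mul_smul, hrb]))
  refine ⟨α, hα, ?_⟩
  have hmem : α⁻¹ * s ∈ T := mul_mem (inv_mem (hAT α hα)) hs
  have h1 : ((α⁻¹ * s) * v⁻¹) • b = b := by
    rw [(hP.comm _ hmem _ (inv_mem hv)).eq, ← mul_assoc, mul_smul, ← h, ← mul_inv_rev,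
      inv_smul_smul]
  exact (hP.split _ hmem _ (inv_mem hv) b h1).1

end Cfsg.Agent.Involutions.RankOne.Saturation
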