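import Mathlib
import Cfsg.Prelude.Def_LieRecognition
import Cfsg.Agent.Lib.CN.Basic
import Cfsg.Agent.Lib.Involutions.Basic

/-!
# Regularity of a nilpotent transitive normal subgroup of a point stabiliser

All two-point stabilisers have odd order and `U` contains two commuting involutions.  If an element
of `U` fixes a second point, one of prime order `p` has a centraliser doubly transitive on its fixed
points, of the same kind; by induction that gives a rank-one set-up whose `Q` has order divisible by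
`p`.  `TwoGroupQ` says that such a `Q` is a 2-group.
-/

set_option autoImplicit false
set_option linter.unusedSectionVars false
set_option linter.style.haveILetI false

namespace Cfsg.Agent.Involutions.RankOne.Saturation

open MulAction Involutions.Basic
open scoped commutatorElement

universe u

/-- In a rank-one set-up with two commuting involutions `Q` is a 2-group. -/
def TwoGroupQ : Prop :=
  ∀ {G Ω : Type u} [Group G] [Finite G] [MulAction G Ω] [FaithfulSMul G Ω] {a : Ω} {t : G}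
    {Q : Subgroup G}, Cfsg.IsRankOneSetup G Ω a t Q →
    (∃ x y : G, x ≠ 1 ∧ y ≠ 1 ∧ x ≠ y ∧ x * x = 1 ∧ y * y = 1 ∧ x * y = y * x) → IsPGroup 2 Q

/-- The hypotheses. -/
structure OddSat (G : Type*) {Ω : Type*} [Group G] [MulAction G Ω] (a : Ω) (U : Subgroup G) : Prop
    where
  two_transitive : IsMultiplyPretransitive G Ω 2
  le : U ≤ stabilizer G a
  conj_mem : ∀ h : G, h • a = a → ∀ x ∈ U, h * x * h⁻¹ ∈ U
  nilpotent : Group.IsNilpotent U
  trans : ∀ c d : Ω, c ≠ a → d ≠ a → ∃ u ∈ U, u • c = d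
  odd_two : ∀ c d : Ω, c ≠ d → Odd (Nat.card ↥(stabilizer G c ⊓ stabilizer G d))
  pair : ∃ x y : G, x ∈ U ∧ y ∈ U ∧ x ≠ 1 ∧ y ≠ 1 ∧ x ≠ y ∧ x * x = 1 ∧ y * y = 1 ∧ x * y = y * x
  moved : ∃ b : Ω, b ≠ a

section
variable {G Ω : Type*} [Group G] [MulAction G Ω] [Finite G] {a : Ω} {U : Subgroup G}

theorem OddSat.exists_move (h : OddSat G a U) {x y x' y' : Ω} (hne : x ≠ y) (hne' : x' ≠ y') :
    ∃ g : G, g • x = x' ∧ g • y = y' :=
  (MulAction.is_two_pretransitive_iff.mp h.two_transitive) hne hne'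

/-- An element central in `U` that fixes a second point is trivial. -/
theorem OddSat.central_eq_one [FaithfulSMul G Ω] (h : OddSat G a U) {z : G} (hz : z ∈ U)
    (hzc : ∀ u ∈ U, Commute u z) {c : Ω} (hc : c ≠ a) (hfix : z • c = c) : z = 1 := by
  refine eq_of_smul_eq_smul (α := Ω) fun e => ?_
  rw [one_smul]
  by_cases he : e = a
  · rw [he]
    exact h.le hz
  · obtain ⟨u, hu, rfl⟩ := h.trans c e hc he
    rw [← mul_smul, ← (hzc u hu).eq, mul_smul, hfix]

/-- An involution fixing `a` fixes no other point. -/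
theorem OddSat.involution_fix (h : OddSat G a U) {x : G} (hx : x ≠ 1) (hx2 : x * x = 1) {c d : Ω}
    (hc : x • c = c) (hd : x • d = d) : c = d := by
  by_contra hne
  have hdvd : orderOf x ∣ Nat.card ↥(stabilizer G c ⊓ stabilizer G d) :=
    Subgroup.orderOf_dvd_natCard _ ⟨hc, hd⟩
  rw [orderOf_two_iff.2 ⟨hx2, hx⟩] at hdvd
  exact Nat.not_even_iff_odd.2 (h.odd_two c d hne) (even_iff_two_dvd.2 hdvd)

/-- When `U` is semiregular, this is a rank-one set-up. -/
theorem OddSat.exists_setup (h : OddSat G a U) (hreg : ∀ u ∈ U, ∀ c : Ω, c ≠ a → u • c = c → u = 1) :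
    ∃ t : G, Cfsg.IsRankOneSetup G Ω a t U := by
  obtain ⟨b, hb⟩ := h.moved
  obtain ⟨g, hga, hgb⟩ := h.exists_move hb.symm hb
  have hg2 : g * g ∈ stabilizer G a ⊓ stabilizer G b :=
    ⟨show (g * g) • a = a by rw [mul_smul, hga, hgb],
      show (g * g) • b = b by rw [mul_smul, hgb, hga]⟩
  obtain ⟨m, hm⟩ : Odd (orderOf (g * g)) :=
    (h.odd_two a b hb.symm).of_dvd_nat (Subgroup.orderOf_dvd_natCard _ hg2)
  set t := g ^ (2 * m + 1) with ht
  have ht2 : t * t = 1 := by
    rw [ht, ← (Commute.refl g).mul_pow, ← hm, pow_orderOf_eq_one]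
  have hta : t • a = b := by
    rw [ht, pow_succ, mul_smul, hga, pow_mul, pow_two]
    exact (pow_mem hg2 m).2
  refine ⟨t,
    { two_transitive := h.two_transitive
      mul_self := ht2
      ne_one := fun e => hb (by rw [← hta, e, one_smul])
      not_mem := fun e => hb (hta.symm.trans e)
      le := h.le
      conj_mem := fun x hx => h.conj_mem x hx
      inf_eq_bot := (Subgroup.eq_bot_iff_forall _).2 fun x hx => hreg x hx.1 b hb (by
        have h1 : x • (t • a) = t • a := hx.2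
        rwa [hta] at h1)
      sup_eq := ?_
      even_card := ?_
      odd_card := by rw [hta]; exact h.odd_two a b hb.symm }⟩
  · refine le_antisymm (sup_le h.le inf_le_left) fun x hx => ?_
    rw [hta]
    obtain ⟨u, hu, hub⟩ := h.trans b (x • b) hb
      fun e => hb (MulAction.injective x (e.trans (show a = x • a from hx.symm)))
    rw [← mul_inv_cancel_left u x]
    exact Subgroup.mul_mem_sup hu (Subgroup.mem_inf.2
      ⟨mul_mem (inv_mem (h.le hu)) hx, by
        rw [mem_stabilizer_iff, mul_smul, ← hub, inv_smul_smul]⟩)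
  · obtain ⟨x, y, hxU, -, hx1, -, -, hx2, -, -⟩ := h.pair
    refine even_iff_two_dvd.2 ?_
    rw [← orderOf_two_iff.2 ⟨hx2, hx1⟩]
    exact Subgroup.orderOf_dvd_natCard U hxU

end

/-- A finite nilpotent group has a central element of each prime order dividing its order. -/
theorem exists_central_orderOf {H : Type*} [Group H] [Finite H] (hH : Group.IsNilpotent H) {p : ℕ}
    [hp : Fact p.Prime] (hdvd : p ∣ Nat.card H) :
    ∃ w : H, orderOf w = p ∧ ∀ x, Commute x w := by
  haveI := hH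
  obtain ⟨P⟩ : Nonempty (Sylow p H) := inferInstance
  haveI hn : (P : Subgroup H).Normal :=
    (Group.isNilpotent_of_finite_tfae.out 0 3 rfl rfl).1 hH p inferInstance P
  haveI : Nontrivial P := by
    rw [← Finite.one_lt_card_iff_nontrivial]
    exact lt_of_lt_of_le hp.out.one_lt (Nat.le_of_dvd Nat.card_pos (P.dvd_card_of_dvd_card hdvd))
  haveI := IsPGroup.center_nontrivial P.isPGroup'
  have hd : p ∣ Nat.card (Subgroup.center P) := by
    obtain ⟨j, hj⟩ := IsPGroup.iff_card.1 (P.isPGroup'.to_subgroup (Subgroup.center P))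
    have h1 : 1 < Nat.card (Subgroup.center P) := Finite.one_lt_card
    rw [hj] at h1 ⊢
    exact dvd_pow_self p (by rintro rfl; simp at h1)
  obtain ⟨⟨⟨w, hw⟩, hwc⟩, hwo⟩ := exists_prime_orderOf_dvd_card' (G := Subgroup.center P) p hd
  rw [Subgroup.orderOf_mk, Subgroup.orderOf_mk] at hwo
  refine ⟨w, hwo, fun x => ?_⟩
  have hle : (⊤ : Subgroup H) ≤ Subgroup.centralizer ({w} : Set H) := by
    refine CN.le_of_forall_isPGroup fun q hq y _ hyq => CN.mem_cent_iff.2 ?_
    haveI := Fact.mk hq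
    by_cases hqp : q = p
    · subst hqp
      obtain ⟨Q, hQ⟩ := hyq.exists_le_sylow
      haveI := Sylow.unique_of_normal P hn
      rw [Subsingleton.elim Q P] at hQ
      exact congrArg Subtype.val
        (Subgroup.mem_center_iff.1 hwc ⟨y, hQ (Subgroup.mem_zpowers y)⟩)
    · exact (CN.commute_of_coprime_group y w
        (CN.coprime_orderOf_of_isPGroup hqp hyq P.isPGroup' (Subgroup.mem_zpowers y) hw)).eq
  exact CN.mem_cent_iff.1 (hle (Subgroup.mem_top x))

theorem regular_aux (hQ : TwoGroupQ.{u}) : ∀ (n : ℕ) {G Ω : Type u} [Group G] [Finite G]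
    [MulAction G Ω] [Finite Ω] [FaithfulSMul G Ω] {a : Ω} {U : Subgroup G}, Nat.card G = n →
    OddSat G a U → ∀ x ∈ U, ∀ b : Ω, b ≠ a → x • b = b → x = 1 := by
  intro n
  induction n using Nat.strong_induction_on with
  | _ n ih => ?_
  intro G Ω _ _ _ _ _ a U hn h x hx b hb hxb
  by_contra hx1
  classical
  haveI := h.nilpotent
  let Pr : ℕ → Prop := fun i =>
    ∃ w : U, w ≠ 1 ∧ (w : G) • b = b ∧ w ∈ Subgroup.upperCentralSeries U i
  have hex : ∃ i, Pr i := ⟨Group.nilpotencyClass U, ⟨x, hx⟩, fun e => hx1 (congrArg Subtype.val e),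
    hxb, by rw [Subgroup.upperCentralSeries_nilpotencyClass]; trivial⟩
  obtain ⟨w, hw1, hwb, hwi⟩ := Nat.find_spec hex
  obtain ⟨i, hi⟩ : ∃ i, Nat.find hex = i + 1 := by
    refine Nat.exists_eq_succ_of_ne_zero fun h0 => ?_
    rw [h0, Subgroup.upperCentralSeries_zero, Subgroup.mem_bot] at hwi
    exact hw1 hwi
  rw [hi] at hwi
  obtain ⟨p, hp, hpd⟩ := Nat.exists_prime_and_dvd (fun e => hw1 (orderOf_eq_one_iff.1 e))
  haveI := Fact.mk hp
  set d : U := w ^ (orderOf w / p) with hd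
  have hdo : orderOf (d : G) = p := by
    rw [Subgroup.orderOf_coe, hd]
    exact orderOf_pow_orderOf_div (orderOf_pos w).ne' hpd
  have hdb : (d : G) • b = b := by
    have := pow_mem (show (w : G) ∈ stabilizer G b from hwb) (orderOf w / p)
    rw [hd, SubmonoidClass.coe_pow]
    exact this
  have hdi : d ∈ Subgroup.upperCentralSeries U (i + 1) := pow_mem hwi _
  have hda : (d : G) • a = a := h.le d.2
  have hd1 : (d : G) ≠ 1 := fun e => hp.ne_one (by rw [← hdo, e, orderOf_one])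
  have hpodd : Odd p := by
    rw [← hdo]
    exact (h.odd_two a b hb.symm).of_dvd_nat (Subgroup.orderOf_dvd_natCard _ ⟨hda, hdb⟩)
  have hfix : ∀ u ∈ U, (d : G) • (u • b) = u • b → Commute u (d : G) := by
    intro u hu hc
    set v : U := ⟨u, hu⟩⁻¹ with hv
    have hcom : ⁅d, v⁆ = 1 := by
      by_contra hne
      refine Nat.find_min hex (show i < Nat.find hex by omega) ⟨⁅d, v⁆, hne, ?_,
        Subgroup.mem_upperCentralSeries_succ_iff.1 hdi v⟩
      rw [hv, commutatorElement_def]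
      show ((d : G) * u⁻¹ * (d : G)⁻¹ * u⁻¹⁻¹) • b = b
      rw [inv_inv, mul_smul, mul_smul, mul_smul, inv_smul_eq_iff.2 hc.symm, inv_smul_smul, hdb]
    have h2 : Commute d v := commutatorElement_eq_one_iff_commute.1 hcom
    have h3 : Commute (d : G) u⁻¹ := congrArg Subtype.val h2.eq
    exact (Commute.inv_right_iff.1 h3).symm
  -- a central element of order `p` of `U`
  obtain ⟨w₀, hw₀o, hw₀c⟩ := exists_central_orderOf h.nilpotent (p := p) (by
    rw [← hdo, Subgroup.orderOf_coe]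
    exact orderOf_dvd_natCard d)
  let Z : Subgroup G :=
    { carrier := {z | z ∈ U ∧ z ^ p = 1 ∧ ∀ u ∈ U, Commute u z}
      one_mem' := ⟨U.one_mem, one_pow p, fun u _ => Commute.one_right u⟩
      mul_mem' := fun {z z'} hz hz' => ⟨mul_mem hz.1 hz'.1,
        by rw [(show Commute z z' from hz'.2.2 z hz.1).mul_pow, hz.2.1, hz'.2.1, one_mul],
        fun u hu => (hz.2.2 u hu).mul_right (hz'.2.2 u hu)⟩
      inv_mem' := fun {z} hz => ⟨inv_mem hz.1, by rw [inv_pow, hz.2.1, inv_one],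
        fun u hu => (hz.2.2 u hu).inv_right⟩ }
  have hw₀Z : (w₀ : G) ∈ Z := by
    refine ⟨w₀.2, ?_, fun u hu => congrArg Subtype.val (hw₀c ⟨u, hu⟩).eq⟩
    rw [← hw₀o, ← Subgroup.orderOf_coe, pow_orderOf_eq_one]
  obtain ⟨g, hga, -⟩ := h.exists_move hb.symm hb
  have hga' : g⁻¹ • b = a := inv_smul_eq_iff.2 hga.symm
  set δ := g⁻¹ * d * g with hδ
  have hδa : δ • a = a := by rw [hδ, mul_smul, mul_smul, hga, hdb, hga']
  have hZconj : ∀ e : G, e • a = a → ∀ z ∈ Z, e * z * e⁻¹ ∈ Z := by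
    rintro e he z ⟨hz, hzp, hzc⟩
    refine ⟨h.conj_mem e he z hz, by rw [conj_pow, hzp, mul_one, mul_inv_cancel], fun u hu => ?_⟩
    have h1 := hzc (e⁻¹ * u * e) (by
      simpa using h.conj_mem e⁻¹ (inv_smul_eq_iff.2 he.symm) u hu)
    have h2 : Commute (e * (e⁻¹ * u * e) * e⁻¹) (e * z * e⁻¹) := Commute.conj_iff e |>.2 h1
    rwa [show e * (e⁻¹ * u * e) * e⁻¹ = u by group] at h2
  have hδp : δ ^ p = 1 := by
    have h1 := conj_pow (a := g⁻¹) (b := (d : G)) (i := p)
    rw [inv_inv, ← hdo, pow_orderOf_eq_one, mul_one, inv_mul_cancel, hdo] at h1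
    exact h1
  let σ : Equiv.Perm Z :=
    { toFun := fun z => ⟨δ * z.1 * δ⁻¹, hZconj δ hδa z.1 z.2⟩
      invFun := fun z => ⟨δ⁻¹ * z.1 * δ, by
        simpa using hZconj δ⁻¹ (inv_smul_eq_iff.2 hδa.symm) z.1 z.2⟩
      left_inv := fun z => Subtype.ext (by
        show δ⁻¹ * (δ * z.1 * δ⁻¹) * δ = z.1
        group)
      right_inv := fun z => Subtype.ext (by
        show δ * (δ⁻¹ * z.1 * δ) * δ⁻¹ = z.1
        group) }
  have hσpow : ∀ (j : ℕ) (z : Z), ((σ ^ j) z : G) = δ ^ j * z.1 * (δ ^ j)⁻¹ := by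
    intro j
    induction j with
    | zero => intro z; simp
    | succ j ihj =>
      intro z
      rw [pow_succ', Equiv.Perm.mul_apply]
      show δ * ((σ ^ j) z : G) * δ⁻¹ = _
      rw [ihj, pow_succ']
      group
  haveI := Fintype.ofFinite Z
  have hZdvd : p ∣ Fintype.card Z := by
    rw [← Nat.card_eq_fintype_card, ← hw₀o, ← Subgroup.orderOf_coe]
    exact Subgroup.orderOf_dvd_natCard Z hw₀Z
  obtain ⟨z, hz, hz1⟩ := Equiv.Perm.exists_fixed_point_of_prime' hZdvd
    (show σ ^ p ^ 1 = 1 by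
      ext z
      rw [pow_one, hσpow, hδp]
      simp)
    (a := (1 : Z)) (Subtype.ext (by show δ * (1 : G) * δ⁻¹ = 1; group))
  set z' := g * z.1 * g⁻¹ with hz'
  have hzd : Commute z' (d : G) := by
    have h1 : δ * z.1 * δ⁻¹ = z.1 := congrArg Subtype.val hz
    have h2 : Commute δ z.1 := mul_inv_eq_iff_eq_mul.1 h1
    have h3 : Commute (g * δ * g⁻¹) (g * z.1 * g⁻¹) := Commute.conj_iff g |>.2 h2
    rw [hδ, show g * (g⁻¹ * (d : G) * g) * g⁻¹ = (d : G) by group] at h3
    exact h3.symm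
  have hz'a : z' • a ≠ a := by
    intro e
    refine hz1 (Subtype.ext (h.central_eq_one z.2.1 z.2.2.2 (c := g⁻¹ • a) (fun e' => hb ?_) ?_))
    · conv_lhs => rw [← hga]
      conv_rhs => rw [← smul_inv_smul g a]
      rw [e']
    · refine MulAction.injective g ?_
      show g • z.1 • g⁻¹ • a = g • g⁻¹ • a
      rw [smul_inv_smul, ← mul_smul, ← mul_smul]
      exact e
  -- the centraliser of `d` on its fixed points
  set C := Subgroup.centralizer ({(d : G)} : Set G) with hC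
  have hmemC : ∀ {e : G}, e ∈ C ↔ Commute e (d : G) := fun {e} =>
    Subgroup.mem_centralizer_singleton_iff
  let F := {c : Ω // (d : G) • c = c}
  letI act : MulAction C F :=
    { smul := fun e c => ⟨(e : G) • c.1, by rw [← mul_smul, ← (hmemC.1 e.2).eq, mul_smul, c.2]⟩
      one_smul := fun c => Subtype.ext (one_smul G c.1)
      mul_smul := fun e e' c => Subtype.ext (mul_smul (e : G) (e' : G) c.1) }
  haveI : Finite F := Subtype.finite
  set φ := MulAction.toPermHom C F with hφ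
  let a' : F := ⟨a, hda⟩
  let b' : F := ⟨b, hdb⟩
  have hb' : b' ≠ a' := fun e => hb (congrArg Subtype.val e)
  have hval : ∀ (e : C) (c : F), ((φ.rangeRestrict e) • c).1 = (e : G) • c.1 := fun _ _ => rfl
  have hUC : ∀ c : F, c ≠ a' → ∃ u : C, (u : G) ∈ U ∧ (u : G) • b = c.1 := by
    intro c hc
    obtain ⟨u, hu, huc⟩ := h.trans b c.1 hb fun e => hc (Subtype.ext e)
    exact ⟨⟨u, hmemC.2 (hfix u hu (by rw [huc, c.2]))⟩, hu, huc⟩
  have htr : ∀ c : F, ∃ e : C, (e : G) • a = c.1 := by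
    intro c
    by_cases hc : c = a'
    · exact ⟨1, by rw [hc]; exact one_smul G a⟩
    · let c₀ : F := ⟨z' • a, by rw [← mul_smul, ← hzd.eq, mul_smul, hda]⟩
      obtain ⟨u₁, -, h₁⟩ := hUC c₀ fun e => hz'a (congrArg Subtype.val e)
      obtain ⟨u₂, -, h₂⟩ := hUC c hc
      refine ⟨u₂ * u₁⁻¹ * ⟨z', hmemC.2 hzd⟩, ?_⟩
      show ((u₂ : G) * (u₁ : G)⁻¹ * z') • a = c.1
      rw [mul_smul, mul_smul, inv_smul_eq_iff.2 h₁.symm, h₂]
  set U' := (U.subgroupOf C).map φ.rangeRestrict with hU'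
  have hnotfix : ∀ (v : C) (c : F), c ≠ a' → φ.rangeRestrict v = 1 → (v : G) • c.1 = c.1 :=
    fun v c _ e => by rw [← hval, e, one_smul]
  have hcop : ∀ v ∈ U, v ≠ 1 → v * v = 1 → Commute v (d : G) := fun v hv hv1 hv2 =>
    CN.commute_of_coprime h.nilpotent hv d.2 (by
      rw [orderOf_two_iff.2 ⟨hv2, hv1⟩, hdo]
      exact Nat.coprime_two_left.2 hpodd)
  have hsat : OddSat φ.range a' U' := by
    refine
      { two_transitive := ?_
        le := ?_
        conj_mem := ?_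
        nilpotent := ?_
        trans := ?_
        odd_two := ?_
        pair := ?_
        moved := ⟨b', hb'⟩ }
    · refine is_two_pretransitive_iff.2 fun {c₁ c₂ e₁ e₂} hc he => ?_
      obtain ⟨g₁, hg₁⟩ := htr c₁
      obtain ⟨g₂, hg₂⟩ := htr e₁
      have aux : ∀ (g₀ : C) (c c' : F), (g₀ : G) • a = c.1 → c ≠ c' → g₀⁻¹ • c' ≠ a' := by
        intro g₀ c c' h0 hne e
        refine hne (Subtype.ext ?_)
        rw [← h0]
        exact (inv_smul_eq_iff.1 (congrArg Subtype.val e : (g₀ : G)⁻¹ • c'.1 = a)).symm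
      obtain ⟨u₁, hu₁, hu₁c⟩ := hUC _ (aux g₁ c₁ c₂ hg₁ hc)
      obtain ⟨u₂, hu₂, hu₂c⟩ := hUC _ (aux g₂ e₁ e₂ hg₂ he)
      refine ⟨φ.rangeRestrict (g₂ * (u₂ * u₁⁻¹) * g₁⁻¹), Subtype.ext ?_, Subtype.ext ?_⟩
      · rw [hval]
        show ((g₂ : G) * ((u₂ : G) * (u₁ : G)⁻¹) * (g₁ : G)⁻¹) • c₁.1 = e₁.1
        rw [mul_smul, inv_smul_eq_iff.2 hg₁.symm, mul_smul, mul_smul,
          inv_smul_eq_iff.2 (show a = (u₁ : G) • a from (h.le hu₁).symm),
          show (u₂ : G) • a = a from h.le hu₂, hg₂]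
      · rw [hval]
        show ((g₂ : G) * ((u₂ : G) * (u₁ : G)⁻¹) * (g₁ : G)⁻¹) • c₂.1 = e₂.1
        rw [mul_smul, show (g₁ : G)⁻¹ • c₂.1 = (g₁⁻¹ • c₂).1 from rfl, ← hu₁c, mul_smul, mul_smul,
          inv_smul_smul, hu₂c]
        exact smul_inv_smul (g₂ : G) e₂.1
    · rintro _ ⟨v, hv, rfl⟩
      exact Subtype.ext (h.le hv)
    · rintro ⟨_, e, rfl⟩ he _ ⟨v, hv, rfl⟩
      have hea : (e : G) • a = a := congrArg Subtype.val he
      exact ⟨e * v * e⁻¹, h.conj_mem _ hea _ hv, by rw [map_mul, map_mul, map_inv]; rfl⟩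
    · haveI : Group.IsNilpotent (U.subgroupOf C) := by
        haveI := CN.isNilpotent_le (show (U.subgroupOf C).map C.subtype ≤ U from by
          rintro _ ⟨v, hv, rfl⟩; exact hv) h.nilpotent
        exact Group.nilpotent_of_mulEquiv
          (Subgroup.equivMapOfInjective (U.subgroupOf C) C.subtype C.subtype_injective).symm
      exact Group.nilpotent_of_surjective (φ.rangeRestrict.subgroupMap (U.subgroupOf C))
        (MonoidHom.subgroupMap_surjective _ _)
    · intro c e hc he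
      obtain ⟨u₁, hu₁, hu₁c⟩ := hUC c hc
      obtain ⟨u₂, hu₂, hu₂c⟩ := hUC e he
      refine ⟨φ.rangeRestrict (u₂ * u₁⁻¹), ⟨_, mul_mem hu₂ (inv_mem hu₁), rfl⟩, Subtype.ext ?_⟩
      rw [hval]
      show ((u₂ : G) * (u₁ : G)⁻¹) • c.1 = e.1
      rw [mul_smul, ← hu₁c, inv_smul_smul, hu₂c]
    · intro c e hce
      have hle : stabilizer φ.range c ⊓ stabilizer φ.range e ≤
          ((stabilizer G c.1 ⊓ stabilizer G e.1).subgroupOf C).map φ.rangeRestrict := by
        rintro ⟨_, v, rfl⟩ ⟨hvc, hve⟩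
        exact ⟨v, ⟨congrArg Subtype.val hvc, congrArg Subtype.val hve⟩, rfl⟩
      refine (h.odd_two c.1 e.1 fun e' => hce (Subtype.ext e')).of_dvd_nat
        ((Subgroup.card_dvd_of_le hle).trans ((Subgroup.card_map_dvd _ _).trans ?_))
      rw [← Subgroup.card_map_of_injective C.subtype_injective]
      exact Subgroup.card_dvd_of_le (by rintro _ ⟨v, hv, rfl⟩; exact hv)
    · obtain ⟨v, v', hv, hv', hv1, hv1', hvv, hv2, hv2', hcomm⟩ := h.pair
      have hne : ∀ (v : C), (v : G) ∈ U → (v : G) ≠ 1 → (v : G) * v = 1 → φ.rangeRestrict v ≠ 1 :=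
        fun v hv hv1 hv2 e =>
          hb (h.involution_fix hv1 hv2 (hnotfix v b' hb' e) (h.le hv))
      let V : C := ⟨v, hmemC.2 (hcop v hv hv1 hv2)⟩
      let V' : C := ⟨v', hmemC.2 (hcop v' hv' hv1' hv2')⟩
      have hV : V * V = 1 := Subtype.ext hv2
      have hV' : V' * V' = 1 := Subtype.ext hv2'
      have hVV : V * V' = V' * V := Subtype.ext hcomm
      refine ⟨φ.rangeRestrict V, φ.rangeRestrict V', ⟨V, hv, rfl⟩, ⟨V', hv', rfl⟩, hne V hv hv1 hv2,
        hne V' hv' hv1' hv2', fun e => ?_, by rw [← map_mul, hV, map_one],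
        by rw [← map_mul, hV', map_one], by rw [← map_mul, hVV, map_mul]⟩
      refine hne (V * V') (mul_mem hv hv') (fun e' => hvv ?_) ?_ ?_
      · rw [eq_inv_of_mul_eq_one_left (show v * v' = 1 from e')]
        exact inv_eq_of_mul_eq_one_left hv2'
      · show v * v' * (v * v') = 1
        conv_lhs => rw [hcomm]
        rw [show v' * v * (v' * v) = v' * (v * v') * v by group, hcomm,
          show v' * (v' * v) * v = v' * v' * (v * v) by group, hv2, hv2', one_mul]
      · rw [map_mul, e, ← map_mul, hV', map_one]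
  haveI : FaithfulSMul φ.range F :=
    ⟨fun {m₁ m₂} e => Subtype.ext (Equiv.ext e)⟩
  have hlt : Nat.card φ.range < n := by
    rw [← hn]
    refine lt_of_le_of_lt (Nat.le_of_dvd Nat.card_pos (Subgroup.card_range_dvd φ)) ?_
    refine lt_of_le_of_ne (Nat.le_of_dvd Nat.card_pos (Subgroup.card_subgroup_dvd_card C)) fun e => hd1 ?_
    have htop : C = ⊤ := Subgroup.eq_top_of_card_eq C e
    refine eq_of_smul_eq_smul (α := Ω) fun c => ?_
    rw [one_smul]
    by_cases hc : c = a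
    · rw [hc, hda]
    · obtain ⟨u, -, rfl⟩ := h.trans b c hb hc
      rw [← mul_smul, ← (hmemC.1 (htop ▸ Subgroup.mem_top u : u ∈ C)).eq, mul_smul, hdb]
  obtain ⟨t, ht⟩ := hsat.exists_setup fun u hu c hc hfixc => ih _ hlt rfl hsat u hu c hc hfixc
  obtain ⟨v, v', -, -, hv1, hv1', hvv, hv2, hv2', hcomm⟩ := hsat.pair
  obtain ⟨k, hk⟩ := hQ ht ⟨v, v', hv1, hv1', hvv, hv2, hv2', hcomm⟩
    ⟨φ.rangeRestrict ⟨(w₀ : G), hmemC.2 (hw₀Z.2.2 d d.2).symm⟩, ⟨_, w₀.2, rfl⟩⟩
  have hk' : φ.rangeRestrict (⟨(w₀ : G), hmemC.2 (hw₀Z.2.2 d d.2).symm⟩ ^ 2 ^ k) = 1 := by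
    rw [map_pow]
    exact congrArg Subtype.val hk
  have hfixb : (w₀ : G) ^ 2 ^ k • b = b := hnotfix _ b' hb' hk'
  have hone := h.central_eq_one (pow_mem w₀.2 _) (fun u hu => (hw₀Z.2.2 u hu).pow_right _) hb hfixb
  have hdvd := orderOf_dvd_of_pow_eq_one hone
  rw [Subgroup.orderOf_coe, hw₀o] at hdvd
  have hp2 : p = 2 := (Nat.prime_dvd_prime_iff_eq hp Nat.prime_two).1 (hp.dvd_of_dvd_pow hdvd)
  exact absurd hpodd (by rw [hp2]; decide)

/-- Regularity. -/
theorem OddSat.regular (hQ : TwoGroupQ.{u}) {G Ω : Type u} [Group G] [Finite G] [MulAction G Ω]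
    [Finite Ω] [FaithfulSMul G Ω] {a : Ω} {U : Subgroup G} (h : OddSat G a U) :
    ∀ x ∈ U, ∀ b : Ω, b ≠ a → x • b = b → x = 1 :=
  regular_aux hQ (Nat.card G) rfl h

end Cfsg.Agent.Involutions.RankOne.Saturation
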