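import Cfsg.Agent.Lib.Involutions.RankOne.Saturation.Count

/-!
# The 2-part and the odd part of `U` on the points other than `a`

The orbits of the odd part all have size the odd part `W` of `|Ω| - 1`, those of the 2-part the
2-part `2 ^ k`.
-/

set_option autoImplicit false
set_option linter.unusedSectionVars false
set_option linter.style.haveILetI false

namespace Cfsg.Agent.Involutions.RankOne.Saturation

open MulAction Involutions.Basic

variable {G Ω : Type*} [Group G] [MulAction G Ω] {a : Ω} {U : Subgroup G}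

/-- The 2-part `T` and odd part `V` of `U`, with the sizes of their orbits. -/
structure Parts (a : Ω) (U T V : Subgroup G) (k W : ℕ) : Prop where
  memT : ∀ x : G, x ∈ T ↔ x • a = a ∧ Two x
  V_le : V ≤ U
  V_odd : ∀ v ∈ V, Odd (orderOf v)
  mem_V : ∀ x ∈ U, Odd (orderOf x) → x ∈ V
  decomp : ∀ u ∈ U, ∃ s ∈ T, ∃ v ∈ V, u = s * v
  comm : ∀ s ∈ T, ∀ v ∈ V, Commute s v
  split : ∀ s ∈ T, ∀ v ∈ V, ∀ c : Ω, (s * v) • c = c → s • c = c ∧ v • c = c
  oddW : Odd W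
  points : Nat.card Ω = 1 + 2 ^ k * W
  orbT : ∀ c : Ω, c ≠ a → Nat.card (orbit T c) = 2 ^ k
  orbV : ∀ c : Ω, c ≠ a → Nat.card (orbit V c) = W

variable (hS : Sat G a U)
include hS

theorem Sat.exists_oddPart [Finite G] :
    ∃ V : Subgroup G, V ≤ U ∧ (∀ v ∈ V, Odd (orderOf v)) ∧ Odd (Nat.card V) ∧
      ∀ x ∈ U, Odd (orderOf x) → x ∈ V := by
  haveI := hS.nilpotent
  haveI : Fact (Nat.Prime 2) := ⟨Nat.prime_two⟩
  obtain ⟨P⟩ : Nonempty (Sylow 2 U) := inferInstance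
  haveI : (P : Subgroup U).Normal :=
    (Group.isNilpotent_of_finite_tfae.out 0 3 rfl rfl).1 hS.nilpotent 2 inferInstance P
  obtain ⟨K, hK⟩ := Subgroup.exists_right_complement'_of_coprime (P.card_coprime_index)
  have hKodd : Odd (Nat.card K) := by
    rw [← hK.symm.index_eq_card]
    exact Nat.odd_iff.2 (Nat.two_dvd_ne_zero.1 P.not_dvd_index)
  refine ⟨K.map U.subtype, Subgroup.map_subtype_le K, ?_, ?_, fun x hx ho => ?_⟩
  · rintro _ ⟨v, hv, rfl⟩
    rw [orderOf_injective _ U.subtype_injective]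
    exact hKodd.of_dvd_nat (Subgroup.orderOf_dvd_natCard K hv)
  · rwa [Subgroup.card_map_of_injective U.subtype_injective]
  refine ⟨⟨x, hx⟩, ?_, rfl⟩
  obtain ⟨⟨⟨p, hp⟩, ⟨v, hv⟩⟩, hpv⟩ := hK.2 (⟨x, hx⟩ : U)
  simp only at hpv
  have hvo : Odd (orderOf v) := hKodd.of_dvd_nat (Subgroup.orderOf_dvd_natCard K hv)
  obtain ⟨j, hj⟩ := P.isPGroup' ⟨p, hp⟩
  have hp2 : Two p := ⟨j, congrArg Subtype.val hj⟩
  have hcom : Commute p v := CN.commute_of_coprime_group p v (hp2.coprime hvo)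
  have hxo : Odd (orderOf (⟨x, hx⟩ : U)) := by rwa [Subgroup.orderOf_mk]
  have hpo : Odd (orderOf p) := by
    refine (hxo.mul hvo).of_dvd_nat (orderOf_dvd_of_pow_eq_one ?_)
    have h1 : (p * v) ^ (orderOf (⟨x, hx⟩ : U) * orderOf v) = 1 := by
      rw [hpv, pow_mul, pow_orderOf_eq_one, one_pow]
    rwa [hcom.mul_pow, mul_comm (orderOf (⟨x, hx⟩ : U)), pow_mul v, pow_orderOf_eq_one, one_pow,
      mul_one, mul_comm] at h1
  rw [← hpv, hp2.eq_one_of_odd hpo, one_mul]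
  exact hv

theorem Sat.split_fix [Finite G] {s v : G} {c : Ω} (hsa : s • a = a) (h2 : Two s) (hv : v ∈ U)
    (ho : Odd (orderOf v)) (h : (s * v) • c = c) : s • c = c ∧ v • c = c := by
  have hcom : Commute s v := hS.commute_odd hsa h2 hv ho
  have h1 : s ^ orderOf v ∈ stabilizer G c := by
    have := pow_mem (show s * v ∈ stabilizer G c from h) (orderOf v)
    rwa [hcom.mul_pow, pow_orderOf_eq_one, mul_one] at this
  obtain ⟨j, hj⟩ := exists_pow_eq_self_of_coprime (h2.coprime ho).symm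
  have hs : s • c = c := by
    have h3 := pow_mem h1 j
    rwa [hj] at h3
  refine ⟨hs, ?_⟩
  rw [mul_smul] at h
  exact MulAction.injective s (h.trans hs.symm)

/-- The parts exist. -/
theorem Sat.exists_parts [Finite G] [Finite Ω] {b : Ω} (hb : b ≠ a) :
    ∃ (T V : Subgroup G) (k W : ℕ), Parts a U T V k W := by
  classical
  haveI : Fact (Nat.Prime 2) := ⟨Nat.prime_two⟩
  obtain ⟨T, hT⟩ := hS.exists_twoSub a
  obtain ⟨V, hVU, hVo, hVcard, hVmem⟩ := hS.exists_oddPart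
  have hTp : IsPGroup 2 T := fun x => by
    obtain ⟨j, hj⟩ := ((hT x).1 x.2).2
    exact ⟨j, Subtype.ext (by simpa using hj)⟩
  have hcomm : ∀ s ∈ T, ∀ v ∈ V, Commute s v := fun s hs v hv =>
    hS.commute_odd ((hT s).1 hs).1 ((hT s).1 hs).2 (hVU hv) (hVo v hv)
  have hdec : ∀ u ∈ U, ∃ s ∈ T, ∃ v ∈ V, u = s * v := by
    intro u hu
    obtain ⟨s, v, hs, hv, hsv, h2, ho⟩ := exists_two_odd u
    exact ⟨s, (hT s).2 ⟨hS.fixA (Subgroup.zpowers_le.2 hu hs), h2⟩, v,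
      hVmem v (Subgroup.zpowers_le.2 hu hv) ho, hsv.symm⟩
  have hfix : ∀ u : G, u • a = a → ∀ c : Ω, c ≠ a → u • c ≠ a := fun u hu c hc e =>
    hc (MulAction.injective u (e.trans hu.symm))
  have hsplit : ∀ s ∈ T, ∀ v ∈ V, ∀ c : Ω, (s * v) • c = c → s • c = c ∧ v • c = c :=
    fun s hs v hv c h => hS.split_fix ((hT s).1 hs).1 ((hT s).1 hs).2 (hVU hv) (hVo v hv) h
  have hprod : ∀ c : Ω, c ≠ a →
      Nat.card (orbit T c) * Nat.card (orbit V c) = Nat.card {d : Ω // d ≠ a} := by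
    intro c hc
    rw [← Nat.card_prod]
    have hs : ∀ d : orbit T c, ∃ s : T, s • c = d.1 := fun d => d.2
    have hv : ∀ d : orbit V c, ∃ v : V, v • c = d.1 := fun d => d.2
    choose σ hσ using hs
    choose τ hτ using hv
    refine Nat.card_eq_of_bijective (fun p : orbit T c × orbit V c =>
      (⟨((σ p.1 : G) * (τ p.2 : G)) • c, hfix _ ?_ c hc⟩ : {d : Ω // d ≠ a}))
      ⟨fun p p' e => ?_, fun d => ?_⟩
    · rw [mul_smul, hS.fixA (hVU (τ p.2).2), ((hT _).1 (σ p.1).2).1]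
    · have e' : ((σ p.1 : G) * (τ p.2 : G)) • c = ((σ p'.1 : G) * (τ p'.2 : G)) • c :=
        congrArg Subtype.val e
      have h1 : ((((σ p'.1 : G))⁻¹ * (σ p.1 : G)) * ((τ p'.2 : G)⁻¹ * (τ p.2 : G))) • c = c := by
        have hc1 : Commute (τ p'.2 : G)⁻¹ ((σ p'.1 : G)⁻¹ * (σ p.1 : G)) :=
          ((hcomm _ (mul_mem (inv_mem (σ p'.1).2) (σ p.1).2) _ (inv_mem (τ p'.2).2))).symm
        rw [show (((σ p'.1 : G))⁻¹ * (σ p.1 : G)) * ((τ p'.2 : G)⁻¹ * (τ p.2 : G)) =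
            ((((σ p'.1 : G))⁻¹ * (σ p.1 : G)) * (τ p'.2 : G)⁻¹) * (τ p.2 : G) by group, ← hc1.eq,
          show (τ p'.2 : G)⁻¹ * (((σ p'.1 : G))⁻¹ * (σ p.1 : G)) * (τ p.2 : G) =
            ((σ p'.1 : G) * (τ p'.2 : G))⁻¹ * ((σ p.1 : G) * (τ p.2 : G)) by group,
          mul_smul, e', inv_smul_smul]
      obtain ⟨h2, h3⟩ := hsplit _ (mul_mem (inv_mem (σ p'.1).2) (σ p.1).2) _
        (mul_mem (inv_mem (τ p'.2).2) (τ p.2).2) c h1
      rw [mul_smul, inv_smul_eq_iff] at h2 h3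
      refine Prod.ext (Subtype.ext ?_) (Subtype.ext ?_)
      · rw [← hσ p.1, ← hσ p'.1]
        exact h2
      · rw [← hτ p.2, ← hτ p'.2]
        exact h3
    · obtain ⟨u, hu, hud⟩ := hS.trans c d.1 hc d.2
      obtain ⟨s, hs, v, hv, rfl⟩ := hdec u hu
      refine ⟨(⟨_, ⟨⟨s, hs⟩, rfl⟩⟩, ⟨_, ⟨⟨v, hv⟩, rfl⟩⟩), Subtype.ext ?_⟩
      set d₁ : orbit T c := ⟨(⟨s, hs⟩ : T) • c, ⟨⟨s, hs⟩, rfl⟩⟩
      set d₂ : orbit V c := ⟨(⟨v, hv⟩ : V) • c, ⟨⟨v, hv⟩, rfl⟩⟩
      show ((σ d₁ : G) * (τ d₂ : G)) • c = d.1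
      have h1 : (σ d₁ : G) • c = s • c := hσ d₁
      have h2 : (τ d₂ : G) • c = v • c := hτ d₂
      rw [mul_smul, h2, ← mul_smul, (hcomm _ (σ d₁).2 v hv).eq, mul_smul, h1, ← mul_smul,
        ← (hcomm s hs v hv).eq, hud]
  have hTdvd : ∀ c : Ω, ∃ j, Nat.card (orbit T c) = 2 ^ j := fun c => by
    rw [Nat.card_congr (orbitEquivQuotientStabilizer T c)]
    exact hTp.index _
  have hVdvd : ∀ c : Ω, Odd (Nat.card (orbit V c)) := fun c => by
    rw [Nat.card_congr (orbitEquivQuotientStabilizer V c)]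
    exact hVcard.of_dvd_nat (Subgroup.card_quotient_dvd_card _)
  obtain ⟨k, hk⟩ := hTdvd b
  have hpoints : Nat.card Ω = 1 + Nat.card {d : Ω // d ≠ a} := by
    rw [add_comm, ← Finite.card_option]
    exact (Nat.card_congr (Equiv.optionSubtypeNe a)).symm
  have key : ∀ c : Ω, c ≠ a → Nat.card (orbit T c) = 2 ^ k ∧
      Nat.card (orbit V c) = Nat.card (orbit V b) := by
    intro c hc
    obtain ⟨j, hj⟩ := hTdvd c
    have h := (hprod c hc).trans (hprod b hb).symm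
    rw [hj, hk] at h
    have hdvd1 : 2 ^ j ∣ 2 ^ k :=
      ((Nat.coprime_two_left.2 (hVdvd b)).pow_left j).dvd_of_dvd_mul_right
        ⟨Nat.card (orbit V c), h.symm⟩
    have hdvd2 : 2 ^ k ∣ 2 ^ j :=
      ((Nat.coprime_two_left.2 (hVdvd c)).pow_left k).dvd_of_dvd_mul_right
        ⟨Nat.card (orbit V b), h⟩
    have hjk := Nat.dvd_antisymm hdvd1 hdvd2
    rw [hjk] at h hj
    exact ⟨hj, Nat.eq_of_mul_eq_mul_left (by positivity) h⟩
  exact ⟨T, V, k, Nat.card (orbit V b),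
    ⟨hT, hVU, hVo, hVmem, hdec, hcomm, hsplit, hVdvd b, by rw [hpoints, ← hprod b hb, hk],
      fun c hc => (key c hc).1, fun c hc => (key c hc).2⟩⟩

/-- The number of fixed points of a 2-element is one more than a multiple of `W`. -/
theorem Sat.dvd_fix [Finite G] [Finite Ω] {T V : Subgroup G} {k W : ℕ} (hP : Parts a U T V k W)
    {y : G} (hy : y ∈ T) : W ∣ fixNum Ω y - 1 := by
  classical
  let X : SubMulAction V Ω :=
    { carrier := {c | c ≠ a ∧ y • c = c}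
      smul_mem' := fun v c hc => by
        refine ⟨fun e => hc.1 (MulAction.injective (v : G) (e.trans (hS.fixA (hP.V_le v.2)).symm)), ?_⟩
        show y • ((v : G) • c) = (v : G) • c
        rw [← mul_smul, (hP.comm y hy v.1 v.2).eq, mul_smul, hc.2] }
  have hX : Nat.card X = fixNum Ω y - 1 := by
    haveI := Fintype.ofFinite Ω
    have e : X ≃ {d : {d : Ω // y • d = d} // d ≠ ⟨a, ((hP.memT y).1 hy).1⟩} :=
      { toFun := fun d => ⟨⟨d.1, d.2.2⟩, fun e => d.2.1 (congrArg Subtype.val e)⟩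
        invFun := fun d => ⟨d.1.1, fun e => d.2 (Subtype.ext e), d.1.2⟩
        left_inv := fun _ => rfl
        right_inv := fun _ => rfl }
    rw [Nat.card_congr e, fixNum, Nat.card_eq_fintype_card, Nat.card_eq_fintype_card,
      Fintype.card_subtype_compl, Fintype.card_subtype_eq]
  haveI : Finite X := Subtype.finite
  haveI := Fintype.ofFinite (orbitRel.Quotient V X)
  have hsum : Nat.card X = ∑ ω : orbitRel.Quotient V X,
      Nat.card (V ⧸ stabilizer V (Quotient.out ω)) := by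
    rw [← Nat.card_sigma]
    exact Nat.card_congr (selfEquivSigmaOrbitsQuotientStabilizer V X)
  rw [← hX, hsum]
  refine Finset.dvd_sum fun ω _ => ?_
  rw [SubMulAction.stabilizer_of_subMul, ← Nat.card_congr (orbitEquivQuotientStabilizer V _),
    hP.orbV _ (Quotient.out ω).2.1]

end Cfsg.Agent.Involutions.RankOne.Saturation
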