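import Cfsg.Agent.Lib.Involutions.RankOne.ConsS0349
import Cfsg.Agent.Lib.Involutions.RankOne.Saturation.Even
import Cfsg.Agent.Lib.Involutions.RankOne.Saturation.Odd

/-!
# S0349 from the split rank-one classification and the 2-group property of `Q`

In a strongly split BN-pair of rank one of a simple group with `|G : B|` and `|B ⊓ N|` odd, `U` is
semiregular on the cosets other than `B`.
-/

set_option autoImplicit false
set_option linter.style.haveILetI false

namespace Cfsg.Agent.Involutions.RankOne.Cons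

open MulAction Involutions.Basic Saturation

universe u

variable {G : Type u} [Group G] [Finite G] (P : Cfsg.BNPair G)

/-- The saturated setting of a strongly split BN-pair of rank one. -/
theorem sat_of_bn (h1 : P.rank = 1) (U : Subgroup G) (hUB : U ≤ P.B)
    (hUn : (U.subgroupOf P.B).Normal) (hUnil : Group.IsNilpotent U)
    (hsplit : U ⊔ (P.B ⊓ P.N) = P.B) (hdisj : U ⊓ P.N = ⊥) (hind : Odd P.B.index)
    (hH : Odd (Nat.card ↥(P.B ⊓ P.N))) : Sat G ((1 : G) : G ⧸ P.B) U := by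
  obtain ⟨t, htN, ht2, htB, hcov⟩ := exists_swap P h1 hH
  have hst : stabilizer G ((1 : G) : G ⧸ P.B) = P.B := stabilizer_quotient P.B
  have hfixa : ∀ {g : G}, g • ((1 : G) : G ⧸ P.B) = ((1 : G) : G ⧸ P.B) → g ∈ P.B := fun {g} hg => by
    rw [← hst]; exact hg
  have hta : ∀ h ∈ P.B ⊓ P.N, t⁻¹ * h * t ∈ P.B := fun h hh => by
    simpa using P.conj_mem t⁻¹ (inv_mem htN) h hh
  have horb : ∀ c : G ⧸ P.B, c ≠ ((1 : G) : G ⧸ P.B) → ∃ u ∈ U, u • ((t : G) : G ⧸ P.B) = c := by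
    intro c hc
    obtain ⟨g, rfl⟩ := QuotientGroup.mk_surjective c
    have hg : g ∉ P.B := fun hg => hc (QuotientGroup.eq.2 (by simpa using hg))
    obtain ⟨b, hb, b', hb', rfl⟩ := hcov g hg
    obtain ⟨u, hu, h, hh, rfl⟩ := exists_decomp_B P U hUB hUn hsplit hb
    refine ⟨u, hu, ?_⟩
    show ((u * t : G) : G ⧸ P.B) = ((u * h * t * b' : G) : G ⧸ P.B)
    rw [QuotientGroup.eq, show (u * t)⁻¹ * (u * h * t * b') = t⁻¹ * h * t * b' by group]
    exact mul_mem (hta h hh) hb'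
  refine
    { two_transitive := two_transitive P hcov
      le := by rw [hst]; exact hUB
      conj_mem := fun h hh x hx => hUn.conj_mem ⟨x, hUB hx⟩ hx ⟨h, hfixa hh⟩
      nilpotent := hUnil
      trans := fun c d hc hd => ?_
      odd_points := hind
      two_mem := fun x hx h2 => ?_ }
  · obtain ⟨u, hu, hu'⟩ := horb c hc
    obtain ⟨v, hv, hv'⟩ := horb d hd
    exact ⟨v * u⁻¹, mul_mem hv (inv_mem hu), by rw [mul_smul, ← hu', inv_smul_smul, hv']⟩
  · obtain ⟨u, hu, h, hh, rfl⟩ := exists_decomp_B P U hUB hUn hsplit (hfixa hx)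
    have hpow : ∀ m : ℕ, (u * h) ^ m * (h ^ m)⁻¹ ∈ U := by
      intro m
      induction m with
      | zero => simp
      | succ m ihm =>
        have h3 : (h ^ m) * u * (h ^ m)⁻¹ ∈ U :=
          hUn.conj_mem ⟨u, hUB hu⟩ hu ⟨h ^ m, pow_mem hh.1 m⟩
        have h4 := mul_mem ihm h3
        rwa [show (u * h) ^ m * (h ^ m)⁻¹ * (h ^ m * u * (h ^ m)⁻¹) =
          (u * h) ^ m * (u * h) * (h ^ m * h)⁻¹ by group, ← pow_succ, ← pow_succ] at h4
    obtain ⟨k, hk⟩ := h2
    have h5 := hpow (2 ^ k)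
    rw [hk, one_mul, inv_mem_iff] at h5
    have h6 : h ^ 2 ^ k = 1 := Subgroup.mem_bot.1 (hdisj ▸ ⟨h5, pow_mem hh.2 _⟩)
    rw [Two.eq_one_of_odd ⟨k, h6⟩ (hH.of_dvd_nat (Subgroup.orderOf_dvd_natCard _ hh)), mul_one]
    exact hu

/-- `U` is semiregular on the cosets other than `B`. -/
theorem regular_of_bn (hQ : TwoGroupQ.{u}) [IsSimpleGroup G] (h1 : P.rank = 1) (U : Subgroup G)
    (hUB : U ≤ P.B) (hUn : (U.subgroupOf P.B).Normal) (hUnil : Group.IsNilpotent U)
    (hsplit : U ⊔ (P.B ⊓ P.N) = P.B) (hdisj : U ⊓ P.N = ⊥) (hind : Odd P.B.index)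
    (hH : Odd (Nat.card ↥(P.B ⊓ P.N))) :
    ∀ g : G, g ∉ P.B → ∀ u ∈ U, g⁻¹ * u * g ∈ P.B → u = 1 := by
  obtain ⟨t, -, ht2, htB, -⟩ := exists_swap P h1 hH
  haveI := faithful (H := P.B) fun e => htB (e ▸ Subgroup.mem_top t)
  have hS := sat_of_bn P h1 U hUB hUn hUnil hsplit hdisj hind hH
  have heven : Even (Nat.card G) := by
    have h : orderOf t = 2 := orderOf_two_iff.2 ⟨ht2, fun e => htB (e ▸ P.B.one_mem)⟩
    exact even_iff_two_dvd.2 (h ▸ orderOf_dvd_natCard t)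
  obtain ⟨z, z', hz, hz', hne⟩ := hS.exists_good_pair heven
  have hO : OddSat G ((1 : G) : G ⧸ P.B) U :=
    { two_transitive := hS.two_transitive
      le := hS.le
      conj_mem := hS.conj_mem
      nilpotent := hS.nilpotent
      trans := hS.trans
      odd_two := fun c d hcd => hS.odd_two_point heven hcd
      pair := ⟨z, z', hS.two_mem z hz.fix hz.two, hS.two_mem z' hz'.fix hz'.two, hz.2, hz'.2, hne,
        inv_sq_one hz.order, inv_sq_one hz'.order, ((hS.good_commute_iff hz hz').2 rfl).eq⟩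
      moved := ⟨((t : G) : G ⧸ P.B), fun e => htB (by
        have h := QuotientGroup.eq.1 e
        simpa using h)⟩ }
  intro g hg u hu hug
  refine hO.regular hQ u hu ((g : G) : G ⧸ P.B) (fun e => hg ?_) ?_
  · have h := QuotientGroup.eq.1 e
    simpa using h
  · show ((u * g : G) : G ⧸ P.B) = ((g : G) : G ⧸ P.B)
    rw [QuotientGroup.eq, ← inv_mem_iff, show ((u * g)⁻¹ * g)⁻¹ = g⁻¹ * u * g by group]
    exact hug

/-- S0349 from S1136 and the 2-group property of `Q`. -/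
theorem s0349_full (hC : Classification.{u}) (hQ : TwoGroupQ.{u}) [IsSimpleGroup G] (h1 : P.rank = 1)
    (U : Subgroup G) (hUB : U ≤ P.B) (hUn : (U.subgroupOf P.B).Normal)
    (hUnil : Group.IsNilpotent U) (hsplit : U ⊔ (P.B ⊓ P.N) = P.B) (hdisj : U ⊓ P.N = ⊥)
    (hind : Odd P.B.index) (hH : Odd (Nat.card ↥(P.B ⊓ P.N))) :
    (∃ (F : Type) (_ : Field F) (_ : Fintype F), (∃ n : ℕ, Fintype.card F = 2 ^ n) ∧
        Nonempty (G ≃* Matrix.ProjectiveSpecialLinearGroup (Fin 2) F)) ∨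
      Cfsg.IsSuzuki G ∨
      (∃ (F : Type) (_ : Field F) (_ : Fintype F) (n : ℕ), 2 ≤ n ∧ Fintype.card F = (2 ^ n) ^ 2 ∧
        Nonempty (G ≃* Cfsg.PSU 3 F (2 ^ n))) :=
  s0349 P hC h1 U hUB hUn hsplit hind hH
    (regular_of_bn P hQ h1 U hUB hUn hUnil hsplit hdisj hind hH)

end Cfsg.Agent.Involutions.RankOne.Cons
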