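import Mathlib
import Cfsg.Agent.Lib.CN.Basic
import Cfsg.Agent.Lib.Involutions.Basic

/-!
# A doubly transitive group with a nilpotent transitive normal subgroup of a point stabiliser

`U` contains all 2-elements of `G_a`; the number of points is odd.  The 2-elements fixing a point
form a group, and the involutions central in it ("good" ones) fix exactly one point.
-/

set_option autoImplicit false
set_option linter.unusedSectionVars false
set_option linter.style.haveILetI false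

namespace Cfsg.Agent.Involutions.RankOne.Saturation

open MulAction Involutions.Basic

variable {G Ω : Type*} [Group G] [MulAction G Ω]

/-- `x` is a 2-element. -/
def Two (x : G) : Prop := ∃ k : ℕ, x ^ 2 ^ k = 1

theorem Two.one : Two (1 : G) := ⟨0, one_pow _⟩

theorem Two.inv {x : G} (h : Two x) : Two x⁻¹ := by
  obtain ⟨k, hk⟩ := h
  exact ⟨k, by rw [inv_pow, hk, inv_one]⟩

theorem Two.conj {x : G} (h : Two x) (g : G) : Two (g * x * g⁻¹) := by
  obtain ⟨k, hk⟩ := h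
  exact ⟨k, by rw [conj_pow, hk, mul_one, mul_inv_cancel]⟩

theorem Two.of_sq {x : G} (h : x * x = 1) : Two x := ⟨1, by rw [pow_one, pow_two, h]⟩

theorem Two.of_order_two {x : G} (h : orderOf x = 2) : Two x := Two.of_sq (inv_sq_one h)

theorem Two.of_sq_two {x : G} (h : Two (x * x)) : Two x := by
  obtain ⟨k, hk⟩ := h
  exact ⟨k + 1, by rw [pow_succ', pow_mul, pow_two, hk]⟩

theorem Two.pow {x : G} (h : Two x) (n : ℕ) : Two (x ^ n) := by
  obtain ⟨k, hk⟩ := h
  exact ⟨k, by rw [← pow_mul, mul_comm, pow_mul, hk, one_pow]⟩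

theorem Two.eq_one_of_odd {x : G} (h : Two x) (ho : Odd (orderOf x)) : x = 1 := by
  obtain ⟨k, hk⟩ := h
  exact orderOf_eq_one_iff.1 (((Nat.coprime_two_right.2 ho).pow_right k).eq_one_of_dvd
    (orderOf_dvd_of_pow_eq_one hk))

theorem Two.coprime {x y : G} (h : Two x) (ho : Odd (orderOf y)) :
    (orderOf x).Coprime (orderOf y) := by
  obtain ⟨k, hk⟩ := h
  exact Nat.Coprime.coprime_dvd_left (orderOf_dvd_of_pow_eq_one hk)
    ((Nat.coprime_two_left.2 ho).pow_left k)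

theorem Two.exists_involution {x : G} (h : Two x) (hx : x ≠ 1) :
    ∃ j : ℕ, orderOf (x ^ j) = 2 := by
  obtain ⟨k, hk⟩ := h
  induction k generalizing x with
  | zero => exact absurd (by simpa using hk) hx
  | succ k ih =>
    by_cases h1 : x * x = 1
    · exact ⟨1, by rw [pow_one]; exact orderOf_two_iff.2 ⟨h1, hx⟩⟩
    · obtain ⟨j, hj⟩ := ih h1 (by rw [← pow_two, ← pow_mul, ← pow_succ']; exact hk)
      exact ⟨2 * j, by rwa [pow_mul, pow_two]⟩

/-- Every element is a product of a 2-element and an odd-order element, both powers of it. -/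
theorem exists_two_odd [Finite G] (x : G) : ∃ s v : G, s ∈ Subgroup.zpowers x ∧
    v ∈ Subgroup.zpowers x ∧ s * v = x ∧ Two s ∧ Odd (orderOf v) := by
  obtain ⟨k, m, hm, hn⟩ := Nat.exists_eq_two_pow_mul_odd (orderOf_pos x).ne'
  have hcop : Nat.Coprime (2 ^ k) m := (Nat.coprime_two_left.2 hm).pow_left k
  have hbez : ((1 : ℕ) : ℤ) = (2 ^ k : ℕ) * Nat.gcdA (2 ^ k) m + (m : ℕ) * Nat.gcdB (2 ^ k) m := by
    rw [← Nat.gcd_eq_gcd_ab, hcop.gcd_eq_one]
  have hx : x ^ (orderOf x : ℤ) = 1 := by rw [zpow_natCast, pow_orderOf_eq_one]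
  rw [hn, Nat.cast_mul] at hx
  refine ⟨x ^ ((m : ℤ) * Nat.gcdB (2 ^ k) m), x ^ (((2 ^ k : ℕ) : ℤ) * Nat.gcdA (2 ^ k) m),
    Subgroup.zpow_mem_zpowers _ _, Subgroup.zpow_mem_zpowers _ _, ?_, ⟨k, ?_⟩, ?_⟩
  · rw [← zpow_add, add_comm, ← hbez, Nat.cast_one, zpow_one]
  · rw [← zpow_natCast, ← zpow_mul,
      show ((m : ℤ) * Nat.gcdB (2 ^ k) m) * ((2 ^ k : ℕ) : ℤ) =
        (((2 ^ k : ℕ) : ℤ) * m) * Nat.gcdB (2 ^ k) m by ring, zpow_mul, hx, one_zpow]
  · refine hm.of_dvd_nat (orderOf_dvd_of_pow_eq_one ?_)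
    rw [← zpow_natCast, ← zpow_mul,
      show (((2 ^ k : ℕ) : ℤ) * Nat.gcdA (2 ^ k) m) * (m : ℤ) =
        (((2 ^ k : ℕ) : ℤ) * m) * Nat.gcdA (2 ^ k) m by ring, zpow_mul, hx, one_zpow]

/-- The elements of square one that fix `c` and commute with all 2-elements fixing `c`. -/
def cenTwo (G : Type*) {Ω : Type*} [Group G] [MulAction G Ω] (c : Ω) : Subgroup G where
  carrier := {z | z * z = 1 ∧ z • c = c ∧ ∀ x : G, x • c = c → Two x → Commute x z}
  one_mem' := ⟨one_mul 1, one_smul G c, fun _ _ _ => Commute.one_right _⟩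
  mul_mem' := by
    rintro z w ⟨hz, hzc, hzx⟩ ⟨hw, hwc, hwx⟩
    refine ⟨?_, by rw [mul_smul, hwc, hzc], fun x hx h2 => (hzx x hx h2).mul_right (hwx x hx h2)⟩
    have h : Commute w z := hzx w hwc (Two.of_sq hw)
    rw [show z * w * (z * w) = z * (w * z) * w by group, h.eq,
      show z * (z * w) * w = (z * z) * (w * w) by group, hz, hw, one_mul]
  inv_mem' := by
    rintro z ⟨hz, hzc, hzx⟩
    rw [inv_eq_of_mul_eq_one_left hz]
    exact ⟨hz, hzc, hzx⟩

theorem mem_cenTwo {z : G} {c : Ω} : z ∈ cenTwo G c ↔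
    z * z = 1 ∧ z • c = c ∧ ∀ x : G, x • c = c → Two x → Commute x z := Iff.rfl

theorem cenTwo_conj {z : G} {c : Ω} (hz : z ∈ cenTwo G c) (g : G) :
    g * z * g⁻¹ ∈ cenTwo G (g • c) := by
  obtain ⟨h1, h2, h3⟩ := mem_cenTwo.1 hz
  refine mem_cenTwo.2 ⟨?_, by rw [mul_smul, mul_smul, inv_smul_smul, h2], fun x hx hx2 => ?_⟩
  · rw [show g * z * g⁻¹ * (g * z * g⁻¹) = g * (z * z) * g⁻¹ by group, h1, mul_one, mul_inv_cancel]
  · have h := h3 (g⁻¹ * x * g) (by rw [mul_smul, mul_smul, hx, inv_smul_smul])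
      (by simpa using hx2.conj g⁻¹)
    have e : x = g * (g⁻¹ * x * g) * g⁻¹ := by group
    rw [e]
    exact Commute.conj_iff g |>.2 h

/-- `z` is a good involution with point `c`. -/
def GoodAt (z : G) (c : Ω) : Prop := z ∈ cenTwo G c ∧ z ≠ 1

theorem GoodAt.order {z : G} {c : Ω} (h : GoodAt z c) : orderOf z = 2 :=
  orderOf_two_iff.2 ⟨(mem_cenTwo.1 h.1).1, h.2⟩

theorem GoodAt.fix {z : G} {c : Ω} (h : GoodAt z c) : z • c = c := (mem_cenTwo.1 h.1).2.1

theorem GoodAt.two {z : G} {c : Ω} (h : GoodAt z c) : Two z := Two.of_order_two h.order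

theorem GoodAt.commute {z : G} {c : Ω} (h : GoodAt z c) {x : G} (hx : x • c = c) (h2 : Two x) :
    Commute x z := (mem_cenTwo.1 h.1).2.2 x hx h2

theorem GoodAt.conj {z : G} {c : Ω} (h : GoodAt z c) (g : G) :
    GoodAt (g * z * g⁻¹) (g • c) :=
  ⟨cenTwo_conj h.1 g, fun e => h.2 (conj_eq_one_iff.1 e)⟩

/-- The hypotheses. -/
structure Sat (G : Type*) {Ω : Type*} [Group G] [MulAction G Ω] (a : Ω) (U : Subgroup G) : Prop
    where
  two_transitive : IsMultiplyPretransitive G Ω 2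
  le : U ≤ stabilizer G a
  conj_mem : ∀ h : G, h • a = a → ∀ x ∈ U, h * x * h⁻¹ ∈ U
  nilpotent : Group.IsNilpotent U
  trans : ∀ c d : Ω, c ≠ a → d ≠ a → ∃ u ∈ U, u • c = d
  odd_points : Odd (Nat.card Ω)
  two_mem : ∀ x : G, x • a = a → Two x → x ∈ U

variable {a : Ω} {U : Subgroup G} (hS : Sat G a U)
include hS

theorem Sat.fixA {u : G} (hu : u ∈ U) : u • a = a := hS.le hu

theorem Sat.exists_move {x y x' y' : Ω} (h : x ≠ y) (h' : x' ≠ y') :
    ∃ g : G, g • x = x' ∧ g • y = y' :=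
  (MulAction.is_two_pretransitive_iff.mp hS.two_transitive) h h'

theorem Sat.exists_to_a (c : Ω) : ∃ g : G, g • c = a := by
  by_cases hc : c = a
  · exact ⟨1, by rw [one_smul, hc]⟩
  · obtain ⟨g, hg, -⟩ := hS.exists_move hc (Ne.symm hc)
    exact ⟨g, hg⟩

/-- A product of 2-elements fixing a common point is a 2-element. -/
theorem Sat.two_mul [Finite G] {x y : G} {c : Ω} (hx : x • c = c) (hy : y • c = c) (h2x : Two x)
    (h2y : Two y) : Two (x * y) := by
  obtain ⟨g, hg⟩ := hS.exists_to_a c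
  have hfix : ∀ w : G, w • c = c → (g * w * g⁻¹) • a = a := fun w hw => by
    rw [mul_smul, mul_smul, inv_smul_eq_iff.2 hg.symm, hw, hg]
  haveI := hS.nilpotent
  haveI : Fact (Nat.Prime 2) := ⟨Nat.prime_two⟩
  obtain ⟨P⟩ : Nonempty (Sylow 2 U) := inferInstance
  have hn : (P : Subgroup U).Normal :=
    (Group.isNilpotent_of_finite_tfae.out 0 3 rfl rfl).1 hS.nilpotent 2 inferInstance P
  haveI := Sylow.unique_of_normal P hn
  have key : ∀ w : G, w • c = c → Two w → ∃ p ∈ (P : Subgroup U), (p : G) = g * w * g⁻¹ := by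
    intro w hw h2
    refine ⟨⟨_, hS.two_mem _ (hfix w hw) (h2.conj g)⟩, ?_, rfl⟩
    obtain ⟨k, hk⟩ := h2.conj g
    have hp : IsPGroup 2 (Subgroup.zpowers (⟨g * w * g⁻¹, hS.two_mem _ (hfix w hw) (h2.conj g)⟩ : U)) := by
      rintro ⟨z, n, rfl⟩
      refine ⟨k, Subtype.ext (Subtype.ext ?_)⟩
      push_cast
      rw [← zpow_natCast, ← zpow_mul, mul_comm, zpow_mul, zpow_natCast, hk, one_zpow]
    obtain ⟨Q, hQ⟩ := hp.exists_le_sylow
    rw [Subsingleton.elim Q P] at hQ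
    exact hQ (Subgroup.mem_zpowers _)
  obtain ⟨p, hp, hpx⟩ := key x hx h2x
  obtain ⟨r, hr, hry⟩ := key y hy h2y
  obtain ⟨k, hk⟩ := P.isPGroup' ⟨p * r, mul_mem hp hr⟩
  have h2 : Two (g * (x * y) * g⁻¹) := by
    refine ⟨k, ?_⟩
    have h := congrArg (fun z : (P : Subgroup U) => ((z : U) : G)) hk
    push_cast at h
    rw [hpx, hry] at h
    rw [show g * (x * y) * g⁻¹ = g * x * g⁻¹ * (g * y * g⁻¹) by group]
    exact h
  simpa [mul_assoc] using h2.conj g⁻¹

/-- Two-elements of `U` commute with odd-order elements of `U`. -/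
theorem Sat.commute_odd [Finite G] {x v : G} (hx : x • a = a) (h2 : Two x) (hv : v ∈ U)
    (ho : Odd (orderOf v)) : Commute x v :=
  CN.commute_of_coprime hS.nilpotent (hS.two_mem x hx h2) hv (h2.coprime ho)

/-- A 2-element fixes a point. -/
theorem Sat.exists_fixed [Finite Ω] {x : G} (h2 : Two x) : ∃ c : Ω, x • c = c := by
  haveI : Fact (Nat.Prime 2) := ⟨Nat.prime_two⟩
  obtain ⟨k, hk⟩ := h2
  have hp : IsPGroup 2 (Subgroup.zpowers x) := by
    rintro ⟨z, n, rfl⟩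
    refine ⟨k, Subtype.ext ?_⟩
    push_cast
    rw [← zpow_natCast, ← zpow_mul, mul_comm, zpow_mul, zpow_natCast, hk, one_zpow]
  obtain ⟨c, hc⟩ := hp.nonempty_fixed_point_of_prime_not_dvd_card Ω
    (Nat.two_dvd_ne_zero.2 (Nat.odd_iff.1 hS.odd_points))
  exact ⟨c, hc ⟨x, Subgroup.mem_zpowers x⟩⟩

/-- The 2-elements fixing `c`, as a subgroup. -/
theorem Sat.exists_twoSub [Finite G] (c : Ω) :
    ∃ T : Subgroup G, ∀ x : G, x ∈ T ↔ x • c = c ∧ Two x :=
  ⟨{  carrier := {x | x • c = c ∧ Two x}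
      one_mem' := ⟨one_smul G c, Two.one⟩
      mul_mem' := fun {x y} hx hy =>
        ⟨by rw [mul_smul, hy.1, hx.1], hS.two_mul hx.1 hy.1 hx.2 hy.2⟩
      inv_mem' := fun {x} hx => ⟨inv_smul_eq_iff.2 hx.1.symm, hx.2.inv⟩ }, fun _ => Iff.rfl⟩

/-- The 2-elements of `G_a` form a Sylow 2-subgroup of `G`. -/
theorem Sat.exists_sylow [Finite G] [Finite Ω] :
    ∃ P : Sylow 2 G, ∀ x : G, x ∈ P ↔ x • a = a ∧ Two x := by
  haveI : Fact (Nat.Prime 2) := ⟨Nat.prime_two⟩
  obtain ⟨T, hT⟩ := hS.exists_twoSub a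
  have hTp : IsPGroup 2 T := fun x => by
    obtain ⟨k, hk⟩ := ((hT x).1 x.2).2
    exact ⟨k, Subtype.ext (by simpa using hk)⟩
  obtain ⟨P, hP⟩ := hTp.exists_le_sylow
  obtain ⟨c, hc⟩ := P.isPGroup'.nonempty_fixed_point_of_prime_not_dvd_card Ω
    (Nat.two_dvd_ne_zero.2 (Nat.odd_iff.1 hS.odd_points))
  obtain ⟨g, hg⟩ := hS.exists_to_a c
  have hle : (P : Subgroup G).map (MulAut.conj g).toMonoidHom ≤ T := by
    rintro _ ⟨x, hx, rfl⟩
    refine (hT _).2 ⟨?_, ?_⟩
    · show (g * x * g⁻¹) • a = a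
      rw [mul_smul, mul_smul, inv_smul_eq_iff.2 hg.symm, show x • c = c from hc ⟨x, hx⟩, hg]
    · obtain ⟨k, hk⟩ := P.isPGroup' ⟨x, hx⟩
      exact Two.conj ⟨k, congrArg Subtype.val hk⟩ g
  have hcard : Nat.card P ≤ Nat.card T := by
    calc Nat.card P = Nat.card ((P : Subgroup G).map (MulAut.conj g).toMonoidHom) :=
          (Subgroup.card_map_of_injective (MulAut.conj g).injective).symm
      _ ≤ Nat.card T := Subgroup.card_le_of_le hle
  have heq : T = (P : Subgroup G) := Subgroup.eq_of_le_of_card_ge hP hcard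
  exact ⟨P, fun x => by rw [← hT x, heq]; rfl⟩

variable [FaithfulSMul G Ω]

/-- Good involutions with point `a` commute with `U`. -/
theorem Sat.good_commute_U [Finite G] {z : G} (hz : GoodAt z a) {u : G} (hu : u ∈ U) :
    Commute u z := by
  obtain ⟨s, v, hs, hv, hsv, h2, ho⟩ := exists_two_odd u
  have hsU : s ∈ U := (Subgroup.zpowers_le.2 hu) hs
  have hvU : v ∈ U := (Subgroup.zpowers_le.2 hu) hv
  rw [← hsv]
  exact (hz.commute (hS.fixA hsU) h2).mul_left
    (hS.commute_odd hz.fix hz.two hvU ho).symm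

/-- A good involution fixes one point only. -/
theorem Sat.good_unique [Finite G] {z : G} {c d : Ω} (hz : GoodAt z c) (hd : z • d = d) :
    d = c := by
  obtain ⟨g, hg⟩ := hS.exists_to_a c
  have hw : GoodAt (g * z * g⁻¹) a := hg ▸ hz.conj g
  by_contra hne
  have hga : g • d ≠ a := fun e => hne (MulAction.injective g (e.trans hg.symm))
  have hfd : (g * z * g⁻¹) • (g • d) = g • d := by rw [mul_smul, mul_smul, inv_smul_smul, hd]
  refine hw.2 (eq_of_smul_eq_smul (α := Ω) fun e => ?_)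
  rw [one_smul]
  by_cases he : e = a
  · rw [he]
    exact hw.fix
  · obtain ⟨u, hu, rfl⟩ := hS.trans _ e hga he
    rw [← mul_smul, ← (hS.good_commute_U hw hu).eq, mul_smul, hfd]

theorem Sat.good_same [Finite G] {z : G} {c d : Ω} (hz : GoodAt z c) (hz' : GoodAt z d) : c = d :=
  hS.good_unique hz' hz.fix

/-- An element commuting with a good involution fixes its point. -/
theorem Sat.good_fix_of_commute [Finite G] {z x : G} {c : Ω} (hz : GoodAt z c) (h : Commute x z) :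
    x • c = c :=
  hS.good_unique hz (by rw [← mul_smul, ← h.eq, mul_smul, hz.fix])

/-- Good involutions commute exactly when they have the same point. -/
theorem Sat.good_commute_iff [Finite G] {z z' : G} {c c' : Ω} (hz : GoodAt z c) (hz' : GoodAt z' c') :
    Commute z z' ↔ c = c' :=
  ⟨fun h => hS.good_unique hz' (hS.good_fix_of_commute hz h.symm) ▸ rfl,
    fun h => hz'.commute (h ▸ hz.fix) hz.two⟩

/-- Each point has a good involution. -/
theorem Sat.exists_good [Finite G] [Finite Ω] (heven : Even (Nat.card G)) (c : Ω) :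
    ∃ z : G, GoodAt z c := by
  haveI : Fact (Nat.Prime 2) := ⟨Nat.prime_two⟩
  obtain ⟨P, hP⟩ := hS.exists_sylow
  haveI : Nontrivial P := by
    rw [← Finite.one_lt_card_iff_nontrivial]
    have h2 : 2 ∣ Nat.card P := P.dvd_card_of_dvd_card heven.two_dvd
    have h0 : 0 < Nat.card P := Nat.card_pos
    exact lt_of_lt_of_le (by norm_num) (Nat.le_of_dvd h0 h2)
  haveI := IsPGroup.center_nontrivial P.isPGroup'
  obtain ⟨w, hw⟩ := exists_ne (1 : Subgroup.center P)
  have hw2 : Two ((w : P) : G) := ((hP _).1 (w : P).2).2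
  obtain ⟨j, hj⟩ := hw2.exists_involution fun e => hw (Subtype.ext (Subtype.ext e))
  obtain ⟨hja, -⟩ := (hP _).1 (pow_mem (w : P).2 j)
  have hgood : GoodAt (((w : P) : G) ^ j) a := by
    refine ⟨mem_cenTwo.2 ⟨inv_sq_one hj, hja, fun x hx h2 => ?_⟩, ne_one hj⟩
    have h := Subgroup.mem_center_iff.1 w.2 ⟨x, (hP x).2 ⟨hx, h2⟩⟩
    exact Commute.pow_right (congrArg Subtype.val h) j
  obtain ⟨g, hg⟩ := hS.exists_to_a c
  exact ⟨_, (inv_smul_eq_iff.2 hg.symm : g⁻¹ • a = c) ▸ hgood.conj g⁻¹⟩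

end Cfsg.Agent.Involutions.RankOne.Saturation
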