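import Cfsg.Agent.Lib.Involutions.RankOne.Saturation.FixSet

/-!
# Good involutions moving `a` into a fixed-point set

If `y` fixes `a`, a good involution `j` with `y` fixing `j a ≠ a` has its own point fixed by `y`.
Products of two such involutions move the good involutions at `a` transitively.
-/

set_option autoImplicit false
set_option linter.unusedSectionVars false
set_option linter.style.haveILetI false

namespace Cfsg.Agent.Involutions.RankOne.Saturation

open MulAction Involutions.Basic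

variable {G Ω : Type*} [Group G] [MulAction G Ω] [FaithfulSMul G Ω] [Finite G] [Finite Ω]
variable {a : Ω} {U : Subgroup G} (hS : Sat G a U)
include hS

/-- A swap `a ↦ j a ≠ a` by a good involution is determined by the image of a good involution. -/
theorem Sat.swap_inj {z j j' : G} {c c' : Ω} (hz : GoodAt z a) (hj : GoodAt j c)
    (hj' : GoodAt j' c') (hd : j • a = j' • a) (hne : j • a ≠ a) (h : j * z * j = j' * z * j') :
    j = j' := by
  by_contra hjj
  have hj2 : j * j = 1 := inv_sq_one hj.order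
  have hj2' : j' * j' = 1 := inv_sq_one hj'.order
  have hjd : j • (j • a) = a := by rw [← mul_smul, hj2, one_smul]
  have hjd' : j' • (j' • a) = a := by rw [← mul_smul, hj2', one_smul]
  set r := j * j' with hr
  have hr1 : r ≠ 1 := fun e => hjj (by rw [eq_inv_of_mul_eq_one_left e, inv_eq hj'.order])
  have hra : r • a = a := by rw [hr, mul_smul, ← hd, hjd]
  have hrd : r • (j • a) = j • a := by
    conv_lhs => rw [hd]
    rw [hr, mul_smul, hjd']
  have hzr : Commute z r := by
    show z * (j * j') = j * j' * z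
    calc z * (j * j') = (j * j) * z * j * j' := by rw [hj2]; group
      _ = j * (j * z * j) * j' := by group
      _ = j * (j' * z * j') * j' := by rw [h]
      _ = j * j' * z * (j' * j') := by group
      _ = j * j' * z := by rw [hj2', mul_one]
  have hjr : j * r * j⁻¹ = r⁻¹ := by
    rw [hr, mul_inv_rev, inv_eq hj.order, inv_eq hj'.order, ← mul_assoc j j j', hj2, one_mul]
  have hac : a ≠ c := fun e => hne (e.symm ▸ hj.fix)
  obtain ⟨e, he, hez⟩ := exists_conj_of_odd hz.order hj.order (hS.good_odd hz hj hac)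
  let N : Subgroup G :=
    { carrier := {g | g * r * g⁻¹ = r ∨ g * r * g⁻¹ = r⁻¹}
      one_mem' := Or.inl (by group)
      mul_mem' := fun {g g'} hg hg' => by
        have hgi : ∀ u, g * u⁻¹ * g⁻¹ = (g * u * g⁻¹)⁻¹ := fun u => by group
        have hm : g * g' * r * (g * g')⁻¹ = g * (g' * r * g'⁻¹) * g⁻¹ := by group
        show g * g' * r * (g * g')⁻¹ = r ∨ g * g' * r * (g * g')⁻¹ = r⁻¹
        rw [hm]
        rcases hg with hg | hg <;> rcases hg' with hg' | hg' <;>
          simp [hg', hg, hgi]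
      inv_mem' := fun {g} hg => by
        show g⁻¹ * r * g⁻¹⁻¹ = r ∨ g⁻¹ * r * g⁻¹⁻¹ = r⁻¹
        rcases hg with hg | hg
        · left
          conv_lhs => rw [← hg]
          group
        · right
          have h1 : g * r⁻¹ * g⁻¹ = r := by
            rw [show g * r⁻¹ * g⁻¹ = (g * r * g⁻¹)⁻¹ by group, hg, inv_inv]
          conv_lhs => rw [← h1]
          group }
  have hzj : z * j ∈ N := by
    right
    rw [show z * j * r * (z * j)⁻¹ = z * (j * r * j⁻¹) * z⁻¹ by group, hjr, hzr.inv_right.eq,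
      mul_inv_cancel_right]
  obtain ⟨i, rfl⟩ := Subgroup.mem_zpowers_iff.1 he
  have heN : ((z * j) ^ i) * r * ((z * j) ^ i)⁻¹ = r ∨ ((z * j) ^ i) * r * ((z * j) ^ i)⁻¹ = r⁻¹ :=
    zpow_mem hzj i
  set e := (z * j) ^ i with he'
  have hcom : Commute j (e * r * e⁻¹) := by
    rw [← hez]
    exact Commute.conj_iff e |>.2 hzr
  have hjr' : Commute j r := by
    rcases heN with h1 | h1 <;> rw [h1] at hcom
    · exact hcom
    · simpa using hcom.inv_right
  have hr2 : r * r = 1 := by
    rw [hjr'.eq, mul_inv_cancel_right] at hjr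
    exact eq_inv_iff_mul_eq_one.1 hjr
  have hcc : c = c' := by
    refine (hS.good_commute_iff hj hj').1 ?_
    have h2 := hjr'.eq
    rw [hr] at h2
    show j * j' = j' * j
    rw [← mul_assoc, hj2, one_mul] at h2
    calc j * j' = j * (j * j' * j) := by rw [← h2]
      _ = (j * j) * j' * j := by group
      _ = j' * j := by rw [hj2, one_mul]
  subst hcc
  have hg : GoodAt r c := ⟨(cenTwo G c).mul_mem hj.1 hj'.1, hr1⟩
  exact hne (by rw [hS.good_unique hg hrd, hS.good_unique hg hra])

/-- The good involutions moving `a` to a fixed point of `y`: their points, and their images. -/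
theorem Sat.swaps {y : G} (hy : orderOf y = 2) (hya : y • a = a)
    {z : G} (hz : GoodAt z a) :
    (∀ (j : G) (c : Ω), GoodAt j c → j • a ≠ a → y • (j • a) = j • a → y • c = c) ∧
      ∀ d : Ω, d ≠ a → y • d = d → ∀ g : G, GoodAt g d →
        ∃ (j : G) (c : Ω), GoodAt j c ∧ j • a = d ∧ j * z * j = g := by
  classical
  haveI := Fintype.ofFinite Ω
  let K := {x : G × Ω // GoodAt x.1 x.2 ∧ (y • (x.1 • a) = x.1 • a ∧ x.1 • a ≠ a)}
  let L := {x : G × Ω // GoodAt x.1 x.2 ∧ (y • x.2 = x.2 ∧ x.2 ≠ a)}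
  have hLK : ∀ (j : G) (c : Ω), GoodAt j c → y • c = c → c ≠ a →
      y • (j • a) = j • a ∧ j • a ≠ a := fun j c hj hc hca => by
    refine ⟨?_, fun e => hca (hS.good_unique hj e).symm⟩
    rw [← mul_smul, (hj.commute hc (Two.of_order_two hy)).eq, mul_smul, hya]
  let ι : L → K := fun x => ⟨x.1, x.2.1, hLK _ _ x.2.1 x.2.2.1 x.2.2.2⟩
  have hιinj : Function.Injective ι := fun x x' e =>
    Subtype.ext (congrArg (fun w : K => w.1) e)
  let σ : K → L := fun x => ⟨(x.1.1 * z * x.1.1, x.1.1 • a), by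
    have h := hz.conj x.1.1
    rwa [inv_eq x.2.1.order] at h, x.2.2.1, x.2.2.2⟩
  have hσinj : Function.Injective σ := by
    rintro ⟨⟨j, c⟩, hj, h1, h2⟩ ⟨⟨j', c'⟩, hj', h1', h2'⟩ e
    have e' := Prod.ext_iff.1 (congrArg (fun w : L => w.1) e)
    have hjj : j = j' := hS.swap_inj hz hj hj' e'.2 h2 e'.1
    subst hjj
    exact Subtype.ext (Prod.ext rfl (hS.good_same hj hj'))
  haveI : Finite K := Subtype.finite
  haveI : Finite L := Subtype.finite
  have hcard : Nat.card K = Nat.card L :=
    le_antisymm (Nat.card_le_card_of_injective σ hσinj) (Nat.card_le_card_of_injective ι hιinj)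
  have hσ := (Nat.bijective_iff_injective_and_card σ).2 ⟨hσinj, hcard⟩
  have hι := (Nat.bijective_iff_injective_and_card ι).2 ⟨hιinj, hcard.symm⟩
  refine ⟨fun j c hj h1 h2 => ?_, fun d hd hyd g hg => ?_⟩
  · obtain ⟨x, hx⟩ := hι.2 ⟨(j, c), hj, h2, h1⟩
    have e : x.1 = (j, c) := congrArg (fun w : K => w.1) hx
    have := x.2.2.1
    rwa [e] at this
  · obtain ⟨x, hx⟩ := hσ.2 ⟨(g, d), hg, hyd, hd⟩
    have e := Prod.ext_iff.1 (congrArg (fun w : L => w.1) hx)
    exact ⟨x.1.1, x.1.2, x.2.1, e.2, e.1⟩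

/-- Elements fixing `a` and centralising `T ∩ G_b` are transitive on the good involutions at `a`. -/
theorem Sat.exists_mover [IsSimpleGroup G] (heven : Even (Nat.card G)) {T V : Subgroup G} {k W : ℕ}
    (hP : Parts a U T V k W) {b : Ω} (hb : b ≠ a) {y : G} (hy : orderOf y = 2) (hyT : y ∈ T)
    (hyb : y • b = b) {z z' : G} (hz : GoodAt z a) (hz' : GoodAt z' a) :
    ∃ k₀ : G, k₀ • a = a ∧ (∀ s ∈ T, s • b = b → Commute k₀ s) ∧ k₀ * z * k₀⁻¹ = z' := by
  have hya := ((hP.memT y).1 hyT).1
  obtain ⟨g, hg⟩ := hS.exists_good heven b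
  obtain ⟨hpt, hex⟩ := hS.swaps hy hya hz
  obtain ⟨hpt', hex'⟩ := hS.swaps hy hya hz'
  obtain ⟨j, c, hj, hja, hjz⟩ := hex b hb hyb g hg
  obtain ⟨j', c', hj', hja', hjz'⟩ := hex' b hb hyb g hg
  obtain ⟨hfix, -⟩ := hS.fix_frame heven hP hb hy hyT hyb
  have hyc : y • c = c := hpt j c hj (by rw [hja]; exact hb) (by rw [hja, hyb])
  have hyc' : y • c' = c' := hpt' j' c' hj' (by rw [hja']; exact hb) (by rw [hja', hyb])
  refine ⟨j' * j, ?_, fun s hs hsb => ?_, ?_⟩
  · rw [mul_smul, hja, ← hja', ← mul_smul, inv_sq_one hj'.order, one_smul]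
  · have hs2 := ((hP.memT s).1 hs).2
    exact Commute.mul_left (hj'.commute (hfix s hs hsb c' hyc') hs2).symm
      (hj.commute (hfix s hs hsb c hyc) hs2).symm
  · rw [mul_inv_rev, inv_eq hj.order, inv_eq hj'.order,
      show j' * j * z * (j * j') = j' * (j * z * j) * j' by group, hjz, ← hjz',
      show j' * (j' * z' * j') * j' = (j' * j') * z' * (j' * j') by group, inv_sq_one hj'.order,
      one_mul, mul_one]

end Cfsg.Agent.Involutions.RankOne.Saturation
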