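import Mathlib

/-!
# A 2-group with an involution whose centraliser is as small as possible

If `C(y) = ⟨y⟩ × A` with `A` central elementary abelian and automorphisms fixing `y` transitive on
the non-identity elements of `A`, then some homomorphism to `ℤˣ` is non-trivial on `y`.
-/

set_option autoImplicit false
set_option linter.style.haveILetI false

namespace Cfsg.Agent.Involutions.RankOne.Saturation

universe u

/-- A character of order two of an elementary abelian 2-group, non-trivial at a given element. -/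
theorem exists_sign_hom {Q : Type*} [Group Q] [Finite Q] (h2 : ∀ x : Q, x * x = 1) {y : Q}
    (hy : y ≠ 1) : ∃ f : Q →* ℤˣ, f y ≠ 1 := by
  classical
  have hinv : ∀ x : Q, x⁻¹ = x := fun x => inv_eq_of_mul_eq_one_left (h2 x)
  have hcomm : ∀ x z : Q, x * z = z * x := fun x z => by
    have h := hinv (x * z)
    rw [mul_inv_rev, hinv, hinv] at h
    exact h.symm
  haveI : Nonempty {M : Subgroup Q // y ∉ M} := ⟨⟨⊥, fun h => hy (Subgroup.mem_bot.1 h)⟩⟩
  obtain ⟨⟨M, hyM⟩, hmax⟩ := Finite.exists_max fun M : {M : Subgroup Q // y ∉ M} => Nat.card M.1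
  have hkey : ∀ x, x ∉ M → y * x ∈ M := by
    intro x hx
    let N : Subgroup Q :=
      { carrier := {z | z ∈ M ∨ z * x ∈ M}
        one_mem' := Or.inl M.one_mem
        mul_mem' := fun {z w} hz hw => by
          rcases hz with hz | hz <;> rcases hw with hw | hw
          · exact Or.inl (mul_mem hz hw)
          · exact Or.inr (by rw [mul_assoc]; exact mul_mem hz hw)
          · exact Or.inr (by rw [mul_assoc, hcomm w, ← mul_assoc]; exact mul_mem hz hw)
          · refine Or.inl ?_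
            have h := mul_mem hz hw
            rwa [mul_assoc, ← mul_assoc x, hcomm x w, mul_assoc w, h2, mul_one] at h
        inv_mem' := fun {z} hz => by rwa [hinv] }
    by_contra hyx
    have hyN : y ∉ N := fun h => h.elim hyM hyx
    have hlt : M < N := lt_of_le_of_ne (fun z hz => Or.inl hz) fun e =>
      hx (e ▸ (Or.inr (by rw [h2]; exact M.one_mem) : x ∈ N))
    exact absurd (hmax ⟨N, hyN⟩) (not_le.2 (Set.Finite.card_lt_card (Set.toFinite _) hlt))
  have hmul : ∀ x z : Q, x * z ∈ M ↔ (x ∈ M ↔ z ∈ M) := by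
    intro x z
    by_cases hx : x ∈ M
    · simp [Subgroup.mul_mem_cancel_left M hx, hx]
    by_cases hz : z ∈ M
    · simp [Subgroup.mul_mem_cancel_right M hz, hz]
    simp only [hx, hz, iff_true]
    have h := mul_mem (hkey x hx) (hkey z hz)
    rwa [hcomm y x, mul_assoc, ← mul_assoc y, h2, one_mul] at h
  refine ⟨MonoidHom.mk' (fun x => if x ∈ M then 1 else -1) fun x z => ?_, ?_⟩
  · have := hmul x z
    by_cases hx : x ∈ M <;> by_cases hz : z ∈ M <;> simp [hx, hz, this]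
  · show (if y ∈ M then (1 : ℤˣ) else -1) ≠ 1
    rw [if_neg hyM]
    decide

/-- The homomorphism `s ↦ [s, y]` on elements with commutator in a central subgroup. -/
theorem comm_mul {S : Type*} [Group S] {A : Subgroup S} (hAc : A ≤ Subgroup.center S) {y s t : S}
    (ht : t * y * t⁻¹ * y⁻¹ ∈ A) :
    s * t * y * (s * t)⁻¹ * y⁻¹ = (t * y * t⁻¹ * y⁻¹) * (s * y * s⁻¹ * y⁻¹) := by
  have h := Subgroup.mem_center_iff.1 (hAc ht) s
  calc s * t * y * (s * t)⁻¹ * y⁻¹ = s * (t * y * t⁻¹ * y⁻¹) * (y * s⁻¹ * y⁻¹) := by group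
    _ = _ := by rw [h]; group

theorem two_lemma_aux : ∀ (n : ℕ) {S : Type u} [Group S] [Finite S], Nat.card S = n → IsPGroup 2 S →
    ∀ {A : Subgroup S}, A ≤ Subgroup.center S → (∀ x ∈ A, x * x = 1) →
    ∀ {y : S}, y * y = 1 → y ∉ A → (∀ s, Commute s y → s ∈ A ∨ y * s ∈ A) →
    (∃ x x' : S, x ∈ A ∧ x' ∈ A ∧ x ≠ 1 ∧ x' ≠ 1 ∧ x ≠ x') →
    (∀ x ∈ A, x ≠ 1 → ∀ x' ∈ A, x' ≠ 1 →
      ∃ e : S ≃* S, e y = y ∧ (∀ z, e z ∈ A ↔ z ∈ A) ∧ e x = x') →
    ∃ f : S →* ℤˣ, f y ≠ 1 := by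
  intro n
  induction n using Nat.strong_induction_on with
  | _ n ih => ?_
  intro S _ _ hn hp A hAc hA2 y hy2 hyA hcent hA3 haut
  classical
  haveI hAn : A.Normal := ⟨fun x hx g => by
    rwa [Subgroup.mem_center_iff.1 (hAc hx) g, mul_inv_cancel_right]⟩
  haveI : Fact (Nat.Prime 2) := ⟨Nat.prime_two⟩
  set π : S →* S ⧸ A := QuotientGroup.mk' A with hπ
  have hπs : Function.Surjective π := QuotientGroup.mk'_surjective A
  have hπ0 : ∀ s, π s = 1 ↔ s ∈ A := fun s => QuotientGroup.eq_one_iff s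
  set c : S → S := fun s => s * y * s⁻¹ * y⁻¹ with hc
  have hM : ∀ s, Commute (π s) (π y) ↔ c s ∈ A := fun s => by
    rw [← hπ0, hc, map_mul, map_mul, map_mul, map_inv, map_inv, mul_inv_eq_one,
      mul_inv_eq_iff_eq_mul]
    exact Iff.rfl
  have hc1 : ∀ s, c s = 1 → s ∈ A ∨ y * s ∈ A := fun s h => hcent s (by
    rw [hc] at h
    simp only at h
    rwa [mul_inv_eq_one, mul_inv_eq_iff_eq_mul] at h)
  have hsq : ∀ s, c s ∈ A → s * s ∈ A := by
    intro s hs
    have h1 : c (s * s) = 1 := by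
      show s * s * y * (s * s)⁻¹ * y⁻¹ = 1
      rw [comm_mul hAc hs]
      exact hA2 _ hs
    rcases hc1 _ h1 with h | h
    · exact h
    · exfalso
      have hys : Commute s y := by
        have h3 : Commute s (y * (s * s)) := Subgroup.mem_center_iff.1 (hAc h) s
        have h4 := h3.mul_right (((Commute.refl s).mul_right (Commute.refl s)).inv_right)
        rwa [mul_inv_cancel_right] at h4
      rcases hcent s hys with h5 | h5
      · exact hyA (by rwa [hA2 s h5, mul_one] at h)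
      · have h7 : y * s * (y * s) = 1 := hA2 _ h5
        rw [show y * s * (y * s) = y * (s * y) * s by group, hys.eq,
          show y * (y * s) * s = y * y * (s * s) by group, hy2, one_mul] at h7
        exact hyA (by rwa [h7, mul_one] at h)
  have hyA2 : π y ≠ 1 := fun h => hyA ((hπ0 y).1 h)
  by_cases htop : ∀ s, c s ∈ A
  · have h2 : ∀ q : S ⧸ A, q * q = 1 := fun q => by
      obtain ⟨s, rfl⟩ := hπs q
      rw [← map_mul]
      exact (hπ0 _).2 (hsq s (htop s))
    obtain ⟨f, hf⟩ := exists_sign_hom h2 hyA2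
    exact ⟨f.comp π, hf⟩
  obtain ⟨x₁, x₂, hx₁, hx₂, hx₁1, hx₂1, hx12⟩ := hA3
  have hA1 : 1 < Nat.card A := by
    haveI : Nontrivial A := ⟨⟨⟨x₁, hx₁⟩, 1, fun e => hx₁1 (congrArg Subtype.val e)⟩⟩
    exact Finite.one_lt_card
  haveI : Group.IsNilpotent (S ⧸ A) := (hp.to_quotient A).isNilpotent
  set Z := Subgroup.center (S ⧸ A) with hZ
  have hZA : ∀ s, π s ∈ Z → c s ∈ A := fun s h =>
    (hM s).1 (Subgroup.mem_center_iff.1 h (π y)).symm
  have hyZ : π y ∉ Z := fun h => htop fun s =>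
    (hM s).1 (Subgroup.mem_center_iff.1 h (π s))
  haveI : Nontrivial (S ⧸ A) := ⟨⟨π y, 1, hyA2⟩⟩
  haveI hZn : Nontrivial Z := IsPGroup.center_nontrivial (hp.to_quotient A)
  obtain ⟨⟨q, hq⟩, hq1⟩ := exists_ne (1 : Z)
  obtain ⟨z₀, rfl⟩ := hπs q
  have hz₀c : c z₀ ≠ 1 := fun h => by
    rcases hc1 _ h with h' | h'
    · exact hq1 (Subtype.ext ((hπ0 _).2 h'))
    · refine hyZ ?_
      have h3 : π y * π z₀ = 1 := by rw [← map_mul]; exact (hπ0 _).2 h'
      rw [eq_inv_of_mul_eq_one_left h3]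
      exact inv_mem hq
  -- every value is taken in the centre
  have hsurj : ∀ α ∈ A, α ≠ 1 → ∃ z, π z ∈ Z ∧ c z = α := by
    intro α hα hα1
    obtain ⟨e, hey, heA, hex⟩ := haut _ (hZA _ hq) hz₀c α hα hα1
    refine ⟨e z₀, ?_, ?_⟩
    · rw [Subgroup.mem_center_iff]
      intro q'
      obtain ⟨s, rfl⟩ := hπs q'
      obtain ⟨s, rfl⟩ := e.surjective s
      rw [← map_mul, ← map_mul, ← map_mul, ← map_mul, ← mul_inv_eq_one, ← map_inv, ← map_mul, hπ0,
        ← map_inv, ← map_mul, heA, ← hπ0, map_mul, map_inv, mul_inv_eq_one, map_mul, map_mul]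
      exact Subgroup.mem_center_iff.1 hq (π s)
    · rw [← hex]
      simp only [hc, map_mul, map_inv, hey]
  have hdec : ∀ s, c s ∈ A → π s = 1 ∨ π s = π y ∨
      ∃ z, π z ∈ Z ∧ c z ≠ 1 ∧ (π s = π z ∨ π s = π y * π z) := by
    intro s hs
    by_cases h : c s = 1
    · rcases hc1 s h with h' | h'
      · exact Or.inl ((hπ0 s).2 h')
      · refine Or.inr (Or.inl ?_)
        have h3 : π y * π s = 1 := by rw [← map_mul]; exact (hπ0 _).2 h'
        rw [eq_inv_of_mul_eq_one_right h3, ← map_inv, inv_eq_of_mul_eq_one_left hy2]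
    · obtain ⟨z, hzZ, hzc⟩ := hsurj _ hs h
      refine Or.inr (Or.inr ⟨z, hzZ, hzc ▸ h, ?_⟩)
      have h0 : c (z⁻¹ * z) = 1 := by simp [hc]
      have hzi : c z⁻¹ * c z = 1 := by
        have hci : c z⁻¹ ∈ A := hZA _ (by rw [map_inv]; exact inv_mem hzZ)
        have h3 : c (z * z⁻¹) = c z⁻¹ * c z := comm_mul hAc hci
        rw [← h3]; simp [hc]
      have h4 : c (z⁻¹ * s) = 1 := by
        have h5 : c (z⁻¹ * s) = c s * c z⁻¹ := comm_mul hAc hs
        rw [h5, eq_inv_of_mul_eq_one_left hzi, hzc, mul_inv_cancel]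
      rcases hc1 _ h4 with h' | h'
      · left
        have h6 := (hπ0 _).2 h'
        rw [map_mul, map_inv, inv_mul_eq_one] at h6
        exact h6.symm
      · right
        have h6 := (hπ0 _).2 h'
        rw [map_mul, map_mul, map_inv, mul_eq_one_iff_eq_inv, mul_inv_rev, inv_inv] at h6
        have h7 : π s = π z * π y⁻¹ := by
          rw [map_inv, h6]
          group
        rw [h7, inv_eq_of_mul_eq_one_left hy2]
        exact (Subgroup.mem_center_iff.1 hzZ _).symm
  have hlt : Nat.card (S ⧸ A) < n := by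
    rw [← hn, Subgroup.card_eq_card_quotient_mul_card_subgroup A]
    exact lt_mul_of_one_lt_right Nat.card_pos hA1
  obtain ⟨f, hf⟩ := ih _ hlt rfl (hp.to_quotient A) (A := Z) le_rfl
    (fun q hqZ => by
      obtain ⟨s, rfl⟩ := hπs q
      rw [← map_mul]
      exact (hπ0 _).2 (hsq s (hZA s hqZ)))
    (y := π y) (by rw [← map_mul, hy2, map_one]) hyZ
    (fun q hcomm => by
      obtain ⟨s, rfl⟩ := hπs q
      have hyy : π y * π y = 1 := by rw [← map_mul, hy2, map_one]
      rcases hdec s ((hM s).1 hcomm) with h | h | ⟨z, hzZ, -, h | h⟩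
      · exact Or.inl (h ▸ Z.one_mem)
      · exact Or.inr (by rw [h, hyy]; exact Z.one_mem)
      · exact Or.inl (h ▸ hzZ)
      · exact Or.inr (by rw [h, ← mul_assoc, hyy, one_mul]; exact hzZ))
    (by
      obtain ⟨z₁, hz₁Z, hz₁⟩ := hsurj x₁ hx₁ hx₁1
      obtain ⟨z₂, hz₂Z, hz₂⟩ := hsurj x₂ hx₂ hx₂1
      have hA' : ∀ z, π z = 1 → c z = 1 := fun z h => by
        have hcz := Subgroup.mem_center_iff.1 (hAc ((hπ0 z).1 h)) y
        show z * y * z⁻¹ * y⁻¹ = 1
        rw [← hcz]; group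
      refine ⟨π z₁, π z₂, hz₁Z, hz₂Z, fun h => hx₁1 (hz₁ ▸ hA' _ h), fun h => hx₂1 (hz₂ ▸ hA' _ h),
        fun h => hx12 ?_⟩
      obtain ⟨γ, hγ, rfl⟩ : ∃ γ ∈ A, z₁ * γ = z₂ :=
        ⟨z₁⁻¹ * z₂, (QuotientGroup.eq).1 h, by group⟩
      rw [← hz₁, ← hz₂]
      have hcγ : c γ = 1 := hA' γ ((hπ0 γ).2 hγ)
      have h9 : c (z₁ * γ) = c γ * c z₁ := comm_mul hAc (show c γ ∈ A by rw [hcγ]; exact A.one_mem)
      rw [h9, hcγ, one_mul])
    (fun q hqZ hq1 q' hq'Z hq'1 => by
      obtain ⟨z, rfl⟩ := hπs q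
      obtain ⟨z', rfl⟩ := hπs q'
      have hne : ∀ w, π w ∈ Z → π w ≠ 1 → c w ≠ 1 := fun w hw hw1 h => by
        rcases hc1 w h with h' | h'
        · exact hw1 ((hπ0 w).2 h')
        · refine hyZ ?_
          have h3 : π y * π w = 1 := by rw [← map_mul]; exact (hπ0 _).2 h'
          rw [eq_inv_of_mul_eq_one_left h3]
          exact inv_mem hw
      obtain ⟨e, hey, heA, hex⟩ := haut _ (hZA _ hqZ) (hne _ hqZ hq1) _ (hZA _ hq'Z) (hne _ hq'Z hq'1)
      have hmap : A.map (e : S →* S) = A := by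
        ext w
        obtain ⟨w, rfl⟩ := e.surjective w
        rw [heA]
        exact ⟨fun ⟨v, hv, hvw⟩ => e.injective hvw ▸ hv, fun h => ⟨w, h, rfl⟩⟩
      let e' : S ⧸ A ≃* S ⧸ A := QuotientGroup.congr A A e hmap
      have he' : ∀ s, e' (π s) = π (e s) := fun s => rfl
      refine ⟨e', by rw [he', hey], fun w => ?_, ?_⟩
      · obtain ⟨s, rfl⟩ := hπs w
        simp only [hZ, Subgroup.mem_center_iff]
        constructor
        · intro h r
          have h1 := h (e' r)
          rw [← map_mul, ← map_mul] at h1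
          exact e'.injective h1
        · intro h r
          obtain ⟨r, rfl⟩ := e'.surjective r
          rw [← map_mul, ← map_mul, h r]
      · rw [he']
        have hce : c (e z) = c z' := by
          rw [← hex]
          simp only [hc, map_mul, map_inv, hey]
        have hzA : c (e z) ∈ A := hce ▸ hZA _ hq'Z
        have hzi : c z'⁻¹ * c z' = 1 := by
          have hci : c z'⁻¹ ∈ A := hZA _ (by rw [map_inv]; exact inv_mem hq'Z)
          have h3 : c (z' * z'⁻¹) = c z'⁻¹ * c z' := comm_mul hAc hci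
          rw [← h3]; simp [hc]
        have h4 : c (z'⁻¹ * e z) = 1 := by
          have h5 : c (z'⁻¹ * e z) = c (e z) * c z'⁻¹ := comm_mul hAc hzA
          rw [h5, hce, eq_inv_of_mul_eq_one_left hzi, mul_inv_cancel]
        rcases hc1 _ h4 with h' | h'
        · have h6 := (hπ0 _).2 h'
          rw [map_mul, map_inv, inv_mul_eq_one] at h6
          exact h6.symm
        · exfalso
          refine hyZ ?_
          have h6 := (hπ0 _).2 h'
          rw [map_mul] at h6
          rw [eq_inv_of_mul_eq_one_left h6, map_mul, map_inv]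
          refine inv_mem (mul_mem (inv_mem hq'Z) ?_)
          rw [← he', hZ, Subgroup.mem_center_iff]
          intro r
          obtain ⟨r, rfl⟩ := e'.surjective r
          rw [← map_mul, ← map_mul, Subgroup.mem_center_iff.1 hqZ r])
  exact ⟨f.comp π, hf⟩

/-- The 2-group lemma. -/
theorem two_lemma {S : Type u} [Group S] [Finite S] (hp : IsPGroup 2 S) {A : Subgroup S}
    (hAc : A ≤ Subgroup.center S) (hA2 : ∀ x ∈ A, x * x = 1) {y : S} (hy2 : y * y = 1) (hyA : y ∉ A)
    (hcent : ∀ s, Commute s y → s ∈ A ∨ y * s ∈ A)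
    (hA3 : ∃ x x' : S, x ∈ A ∧ x' ∈ A ∧ x ≠ 1 ∧ x' ≠ 1 ∧ x ≠ x')
    (haut : ∀ x ∈ A, x ≠ 1 → ∀ x' ∈ A, x' ≠ 1 →
      ∃ e : S ≃* S, e y = y ∧ (∀ z, e z ∈ A ↔ z ∈ A) ∧ e x = x') :
    ∃ f : S →* ℤˣ, f y ≠ 1 :=
  two_lemma_aux (Nat.card S) rfl hp hAc hA2 hy2 hyA hcent hA3 haut

end Cfsg.Agent.Involutions.RankOne.Saturation
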